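import Cfsg.Agent.H752.Mp
import Cfsg.Agent.H802.FusEss
import Cfsg.Agent.Lib.Cores
set_option linter.all false

/-!
# The normalizer system of a centric radical subgroup and its models (helper753)
-/

set_option autoImplicit false

namespace Cfsg.Agent.H753

open Cfsg Cfsg.FusionSystem Cfsg.Agent.H752

variable {Ω : Type*} [Group Ω] {S : Subgroup Ω} {F : FusionSystem S} {R : Subgroup Ω}
  {E : FusionSystem (normalizerIn S R)}

/-- The maps of the normalizer system in terms of functions. -/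
theorem mp_normalizerSystem_iff (hE : F.IsNormalizerSystem R E) {P : Subgroup Ω} {f : Ω → Ω} :
    Mp E P f ↔ Mp F P f ∧ P ≤ normalizerIn S R ∧ (∀ x ∈ P, f x ∈ normalizerIn S R) ∧
      ∃ g, Mp F (P ⊔ R) g ∧ (∀ x ∈ P, g x = f x) ∧ (∀ x ∈ R, g x ∈ R) ∧
        ∀ y ∈ R, ∃ x ∈ R, g x = y := by
  constructor
  · rintro ⟨φ, hφ, h1⟩
    have h2 : φ ∈ F.normalizerHom R P := by rw [← hE P]; exact hφ
    obtain ⟨h3, h4, h5, ψ, hψ, h6, h7⟩ := h2
    refine ⟨⟨φ, h3, h1⟩, h4, fun x hx => by rw [← h1 x hx]; exact h5 _, ex ψ, mp_ex hψ, ?_, ?_, ?_⟩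
    · intro x hx
      rw [ex_apply _ ((le_sup_left : P ≤ P ⊔ R) hx), ← h1 x hx]
      exact h6 ⟨x, hx⟩
    · intro x hx
      rw [ex_apply _ ((le_sup_right : R ≤ P ⊔ R) hx)]
      have h8 : ψ ⟨x, (le_sup_right : R ≤ P ⊔ R) hx⟩ ∈ (R.subgroupOf (P ⊔ R)).map ψ :=
        ⟨⟨x, (le_sup_right : R ≤ P ⊔ R) hx⟩, hx, rfl⟩
      rwa [h7] at h8
    · intro y hy
      have h8 : y ∈ (R.subgroupOf (P ⊔ R)).map ψ := by rw [h7]; exact hy
      obtain ⟨z, hz, hzy⟩ := h8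
      refine ⟨z, hz, ?_⟩
      rw [ex_coe]
      exact hzy
  · rintro ⟨⟨φ, hφ, h1⟩, h2, h3, g, ⟨ψ, hψ, h4⟩, h5, h6, h7⟩
    refine ⟨φ, ?_, h1⟩
    rw [hE P]
    refine ⟨hφ, h2, fun x => by rw [h1 x x.2]; exact h3 x x.2, ψ, hψ, fun x => ?_, ?_⟩
    · have h8 := h4 x ((le_sup_left : P ≤ P ⊔ R) x.2)
      rw [h5 x x.2, ← h1 x x.2] at h8
      exact h8
    · ext y
      constructor
      · rintro ⟨z, hz, rfl⟩
        have h8 := h6 z hz
        rw [← h4 z z.2] at h8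
        exact h8
      · intro hy
        obtain ⟨x, hx, hxy⟩ := h7 y hy
        refine ⟨⟨x, (le_sup_right : R ≤ P ⊔ R) hx⟩, hx, ?_⟩
        rw [h4 x]
        exact hxy

theorem le_normalizerIn' (hRS : R ≤ S) : R ≤ normalizerIn S R := le_inf hRS Subgroup.le_normalizer

/-- `R` is normal in its normalizer system. -/
theorem isNormal_normalizerSystem (hRS : R ≤ S) (hE : F.IsNormalizerSystem R E) : E.IsNormal R := by
  refine ⟨le_normalizerIn' hRS, fun P φ hφ => ?_⟩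
  obtain ⟨h1, h2, h3, g, h4, h5, h6, h7⟩ := (mp_normalizerSystem_iff hE).1 (mp_ex hφ)
  have h8 : Mp E (P ⊔ R) g := by
    rw [mp_normalizerSystem_iff hE]
    refine ⟨h4, sup_le h2 (le_normalizerIn' hRS), ?_, g, ?_, fun x _ => rfl, h6, h7⟩
    · intro x hx
      have h9 : P ⊔ R ≤ ((normalizerIn S R).comap (Classical.choose h4)).map (P ⊔ R).subtype := by
        have h10 := (Classical.choose_spec h4).2
        refine sup_le ?_ ?_
        · intro y hy
          refine ⟨⟨y, (le_sup_left : P ≤ P ⊔ R) hy⟩, ?_, rfl⟩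
          show Classical.choose h4 _ ∈ normalizerIn S R
          rw [h10 y, h5 y hy]
          exact h3 y hy
        · intro y hy
          refine ⟨⟨y, (le_sup_right : R ≤ P ⊔ R) hy⟩, ?_, rfl⟩
          show Classical.choose h4 _ ∈ normalizerIn S R
          rw [h10 y]
          exact le_normalizerIn' hRS (h6 y hy)
      obtain ⟨z, hz, hzx⟩ := h9 hx
      have h11 : Classical.choose h4 z ∈ normalizerIn S R := hz
      rw [(Classical.choose_spec h4).2 z z.2] at h11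
      have h12 : (z : Ω) = x := hzx
      rwa [h12] at h11
    · have : P ⊔ R ⊔ R = P ⊔ R := by simp
      rw [this]
      exact h4
  obtain ⟨ψ, hψ, h9⟩ := h8
  refine ⟨ψ, hψ, fun x => ?_, ?_⟩
  · have := h9 x ((le_sup_left : P ≤ P ⊔ R) x.2)
    rw [h5 x x.2, ex_coe] at this
    exact this
  · ext y
    constructor
    · rintro ⟨z, hz, rfl⟩
      have h10 := h6 z hz
      rw [← h9 z z.2] at h10
      exact h10
    · intro hy
      obtain ⟨x, hx, hxy⟩ := h7 y hy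
      refine ⟨⟨x, (le_sup_right : R ≤ P ⊔ R) hx⟩, hx, ?_⟩
      rw [h9 x]
      exact hxy

theorem isCentric_normalizerSystem (hE : F.IsNormalizerSystem R E) (hR : F.IsCentric R) :
    E.IsCentric R := by
  refine ⟨le_normalizerIn' hR.1, fun Q hQ => ?_⟩
  obtain ⟨φ, hφ, hr⟩ := hQ
  have h1 : φ ∈ F.normalizerHom R R := by rw [← hE R]; exact hφ
  exact le_trans (inf_le_inf_right _ inf_le_left) (hR.2 Q ⟨φ, h1.1, hr⟩)

theorem autGroup_normalizerSystem (hRS : R ≤ S) (hE : F.IsNormalizerSystem R E) :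
    E.autGroup R = F.autGroup R := by
  ext α
  rw [mp_iff_autGroup hRS, mp_iff_autGroup (le_normalizerIn' hRS)]
  constructor
  · intro h
    exact ((mp_normalizerSystem_iff hE).1 h).1
  · intro h
    rw [mp_normalizerSystem_iff hE]
    have h1 : ∀ x ∈ R, ex (fun x => ((α x : R) : Ω)) x ∈ R := fun x hx => by
      rw [ex_apply _ hx]
      exact (α _).2
    refine ⟨h, le_normalizerIn' hRS, fun x hx => le_normalizerIn' hRS (h1 x hx), _, ?_,
      fun x _ => rfl, h1, ?_⟩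
    · rw [sup_idem]
      exact h
    · intro y hy
      refine ⟨(α.symm ⟨y, hy⟩ : R), (α.symm ⟨y, hy⟩).2, ?_⟩
      rw [ex_coe]
      show ((α (α.symm ⟨y, hy⟩) : R) : Ω) = y
      rw [MulEquiv.apply_symm_apply]

/-! ### Systems realized by a homomorphism -/

section realized

variable {T : Subgroup Ω} {D : FusionSystem T} {G : Type*} [Group G] {ι : T →* G}

/-- Conjugation by an element of `G` which carries `ι(P)` into `ι(T)` gives a map of the system. -/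
theorem exists_mp_of_conj (hD : D.IsRealizedBy ι) {P : Subgroup Ω} (hP : P ≤ T) (g : G)
    (h : ∀ x : P, ∃ n : T, ι n = g * ι ⟨x, hP x.2⟩ * g⁻¹) :
    ∃ f, Mp D P f ∧ ∀ (x : Ω) (hx : x ∈ P), ∃ hfx : f x ∈ T,
      ι ⟨f x, hfx⟩ = g * ι ⟨x, hP hx⟩ * g⁻¹ := by
  choose n hn using h
  let φ : P →* Ω := MonoidHom.mk' (fun x => (n x : Ω)) (fun x y => by
    have h1 : n (x * y) = n x * n y := by
      apply hD.1
      rw [map_mul, hn, hn, hn]
      have h2 : (⟨((x * y : P) : Ω), hP (x * y).2⟩ : T) = ⟨x, hP x.2⟩ * ⟨y, hP y.2⟩ := rfl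
      rw [h2, map_mul]
      group
    show ((n (x * y) : T) : Ω) = _
    rw [h1]
    rfl)
  have hφ : φ ∈ D.Hom P := (hD.2 P hP φ (fun x => (n x).2)).2 ⟨g, fun x => hn x⟩
  refine ⟨ex φ, mp_ex hφ, fun x hx => ?_⟩
  have h3 : ex φ x = (n ⟨x, hx⟩ : Ω) := ex_apply _ hx
  refine ⟨by rw [h3]; exact (n _).2, ?_⟩
  have h4 : (⟨ex φ x, by rw [h3]; exact (n _).2⟩ : T) = n ⟨x, hx⟩ := Subtype.ext h3
  rw [h4]
  exact hn ⟨x, hx⟩

/-- A map of the system is conjugation by an element of `G`. -/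
theorem exists_conj_of_mp (hD : D.IsRealizedBy ι) {P : Subgroup Ω} {f : Ω → Ω} (h : Mp D P f) :
    ∃ g : G, ∀ (x : Ω) (_ : x ∈ P) (hxT : x ∈ T), ∃ hfx : f x ∈ T,
      ι ⟨f x, hfx⟩ = g * ι ⟨x, hxT⟩ * g⁻¹ := by
  obtain ⟨φ, hφ, h1⟩ := h
  have hP := (D.le_of_mem hφ).1
  have hφT := (D.le_of_mem hφ).2
  obtain ⟨g, hg⟩ := (hD.2 P hP φ hφT).1 hφ
  refine ⟨g, fun x hx hxT => ?_⟩
  have h2 : f x ∈ T := by rw [← h1 x hx]; exact hφT _
  refine ⟨h2, ?_⟩
  have h3 := hg ⟨x, hx⟩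
  have h4 : (⟨f x, h2⟩ : T) = ⟨φ ⟨x, hx⟩, hφT _⟩ := Subtype.ext (h1 x hx).symm
  rw [h4]
  exact h3

end realized

/-- **Models of the normalizer system of a centric radical subgroup.** -/
theorem pCore_model_eq [Finite S] {p : ℕ} [Fact p.Prime] (hRc : F.IsCentric R)
    (hRr : F.IsRadical p R) (hE : F.IsNormalizerSystem R E) {G : Type*} [Group G]
    (ι : ↥(normalizerIn S R) →* G) (hm : E.IsModel p G ι) :
    (pCore p G : Subgroup G) = (R.subgroupOf (normalizerIn S R)).map ι := by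
  obtain ⟨hfin, hreal, ⟨T, hT⟩, hcen⟩ := hm
  have hinj := hreal.1
  have hRS : R ≤ S := hRc.1
  have hRN : R ≤ normalizerIn S R := le_normalizerIn' hRS
  have hnormal := isNormal_normalizerSystem hRS hE
  have hpc : ∀ y ∈ pCore p G, ∃ n : ↥(normalizerIn S R), ι n = y := by
    intro y hy
    have h1 := Cfsg.Agent.Lib.Cores.pCore_le_sylow T hy
    rw [hT] at h1
    exact h1
  have hpn : (pCore p G).Normal := Cfsg.Agent.Lib.Cores.pCore_normal p
  have hpp : IsPGroup p (pCore p G) := Cfsg.Agent.Lib.Cores.pCore_isPGroup p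
  have hconjR : ∀ (n : ↥(normalizerIn S R)) (r : Ω), r ∈ R → (n : Ω) * r * (n : Ω)⁻¹ ∈ R :=
    fun n r hr => (Subgroup.mem_normalizer_iff.1 n.2.2 r).1 hr
  set P₀ : Subgroup Ω := ((pCore p G).comap ι).map (normalizerIn S R).subtype with hP₀
  have hP₀N : P₀ ≤ normalizerIn S R := by
    rintro _ ⟨x, -, rfl⟩
    exact x.2
  -- `ι(R)` is normal
  have key1 : ∀ (g : G) (r : Ω) (hr : r ∈ R), ∃ (r' : Ω) (hr' : r' ∈ R),
      ι ⟨r', hRN hr'⟩ = g * ι ⟨r, hRN hr⟩ * g⁻¹ := by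
    intro g r hr
    obtain ⟨f, hf, hfe⟩ := exists_mp_of_conj hreal hP₀N g (fun x => by
      obtain ⟨y, hy, hyx⟩ := x.2
      refine hpc _ ?_
      have h1 : ι ⟨x, hP₀N x.2⟩ ∈ pCore p G := by
        have h2 : (⟨(x : Ω), hP₀N x.2⟩ : ↥(normalizerIn S R)) = y := Subtype.ext hyx.symm
        rw [h2]
        exact hy
      exact hpn.conj_mem _ h1 g)
    obtain ⟨φ, hφ, hφe⟩ := hf
    obtain ⟨ψ, hψ, hψ1, hψ2⟩ := hnormal.2 P₀ φ hφ
    obtain ⟨g', hg'⟩ := exists_conj_of_mp hreal (mp_ex hψ)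
    have hc : g⁻¹ * g' ∈ pCore p G := by
      refine hcen (Subgroup.mem_centralizer_iff.2 fun y hy => ?_)
      obtain ⟨n, hn⟩ := hpc y hy
      have hnP : (n : Ω) ∈ P₀ := ⟨n, by show ι n ∈ pCore p G; rw [hn]; exact hy, rfl⟩
      obtain ⟨h1, h2⟩ := hfe n hnP
      obtain ⟨h3, h4⟩ := hg' n ((le_sup_left : P₀ ≤ P₀ ⊔ R) hnP) n.2
      have h5 : ex ψ n = f n := by
        rw [ex_apply _ ((le_sup_left : P₀ ≤ P₀ ⊔ R) hnP), ← hφe n hnP]
        exact hψ1 ⟨n, hnP⟩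
      have h6 : (⟨ex ψ n, h3⟩ : ↥(normalizerIn S R)) = ⟨f n, h1⟩ := Subtype.ext h5
      rw [h6, h2] at h4
      have h9 : g * ι n * g⁻¹ = g' * ι n * g'⁻¹ := h4
      rw [hn] at h9
      calc y * (g⁻¹ * g') = g⁻¹ * (g * y * g⁻¹) * g' := by group
        _ = g⁻¹ * (g' * y * g'⁻¹) * g' := by rw [h9]
        _ = g⁻¹ * g' * y := by group
    obtain ⟨n, hn⟩ := hpc _ hc
    have hr1 : (n : Ω)⁻¹ * r * (n : Ω) ∈ R := by
      have := hconjR n⁻¹ r hr
      simpa using this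
    obtain ⟨h3, h4⟩ := hg' _ ((le_sup_right : R ≤ P₀ ⊔ R) hr1) (hRN hr1)
    have h5 : ex ψ ((n : Ω)⁻¹ * r * (n : Ω)) ∈ R := by
      rw [ex_apply _ ((le_sup_right : R ≤ P₀ ⊔ R) hr1)]
      have h8 : ψ ⟨_, (le_sup_right : R ≤ P₀ ⊔ R) hr1⟩ ∈ (R.subgroupOf (P₀ ⊔ R)).map ψ :=
        ⟨⟨_, (le_sup_right : R ≤ P₀ ⊔ R) hr1⟩, hr1, rfl⟩
      rwa [hψ2] at h8
    refine ⟨_, h5, ?_⟩
    have h6 : (⟨(n : Ω)⁻¹ * r * (n : Ω), hRN hr1⟩ : ↥(normalizerIn S R)) =
        n⁻¹ * ⟨r, hRN hr⟩ * n := rfl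
    rw [h6, map_mul, map_mul, map_inv, hn] at h4
    have h7 : (⟨ex ψ ((n : Ω)⁻¹ * r * (n : Ω)), hRN h5⟩ : ↥(normalizerIn S R)) =
      ⟨ex ψ ((n : Ω)⁻¹ * r * (n : Ω)), h3⟩ := rfl
    rw [h7, h4]
    group
  have hRnormal : ((R.subgroupOf (normalizerIn S R)).map ι).Normal := by
    refine ⟨?_⟩
    rintro _ ⟨r, hr, rfl⟩ g
    obtain ⟨r', hr', h1⟩ := key1 g r hr
    exact ⟨⟨r', hRN hr'⟩, hr', h1⟩
  refine le_antisymm ?_ ?_
  · -- `O_p(G) ≤ ι(R)`
    have hpair : ∀ a : F.autGroup R, ∃ g : G, ∀ x : R,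
        ι ⟨((a : MulAut R) x : R), hRN ((a : MulAut R) x).2⟩ = g * ι ⟨x, hRN x.2⟩ * g⁻¹ := by
      intro a
      have h1 : (a : MulAut R) ∈ E.autGroup R := by
        rw [autGroup_normalizerSystem hRS hE]
        exact a.2
      obtain ⟨g, hg⟩ := exists_conj_of_mp hreal ((mp_iff_autGroup hRN _).1 h1)
      refine ⟨g, fun x => ?_⟩
      obtain ⟨h2, h3⟩ := hg x x.2 (hRN x.2)
      rw [← h3]
      congr 1
      exact Subtype.ext (ex_coe (fun x => (((a : MulAut R) x : R) : Ω)) x).symm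
    let K : Subgroup (F.autGroup R) :=
      { carrier := {a | ∃ y ∈ pCore p G, ∀ x : R,
          ι ⟨((a : MulAut R) x : R), hRN ((a : MulAut R) x).2⟩ = y * ι ⟨x, hRN x.2⟩ * y⁻¹}
        one_mem' := ⟨1, one_mem _, fun x => by simp⟩
        mul_mem' := by
          rintro a b ⟨y, hy, h1⟩ ⟨z, hz, h2⟩
          refine ⟨y * z, mul_mem hy hz, fun x => ?_⟩
          have h3 := h1 ((b : MulAut R) x)
          have h4 := h2 x
          show ι ⟨((a : MulAut R) ((b : MulAut R) x) : R), _⟩ = _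
          rw [h3, h4]
          group
        inv_mem' := by
          rintro a ⟨y, hy, h1⟩
          refine ⟨y⁻¹, inv_mem hy, fun x => ?_⟩
          have h3 := h1 (((a : MulAut R)⁻¹) x)
          have h4 : (a : MulAut R) (((a : MulAut R)⁻¹) x) = x := (a : MulAut R).apply_symm_apply x
          have h5 : (⟨(((a : MulAut R) (((a : MulAut R)⁻¹) x) : R) : Ω),
            hRN ((a : MulAut R) (((a : MulAut R)⁻¹) x)).2⟩ : ↥(normalizerIn S R)) =
              ⟨x, hRN x.2⟩ := Subtype.ext (congrArg (fun z : R => (z : Ω)) h4)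
          rw [h5] at h3
          rw [h3]
          show ι ⟨((((a : MulAut R)⁻¹) x : R) : Ω), _⟩ = _
          group }
    have hKn : K.Normal := by
      refine ⟨?_⟩
      rintro a ⟨y, hy, h1⟩ b
      obtain ⟨g, hg⟩ := hpair b
      refine ⟨g * y * g⁻¹, hpn.conj_mem y hy g, fun x => ?_⟩
      have h2 := hg ((a : MulAut R) (((b : MulAut R)⁻¹) x))
      have h3 := h1 (((b : MulAut R)⁻¹) x)
      have h4 := hg (((b : MulAut R)⁻¹) x)
      have h5 : (b : MulAut R) (((b : MulAut R)⁻¹) x) = x := (b : MulAut R).apply_symm_apply x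
      have h6 : (⟨(((b : MulAut R) (((b : MulAut R)⁻¹) x) : R) : Ω),
        hRN ((b : MulAut R) (((b : MulAut R)⁻¹) x)).2⟩ : ↥(normalizerIn S R)) =
          ⟨x, hRN x.2⟩ := Subtype.ext (congrArg (fun z : R => (z : Ω)) h5)
      rw [h6] at h4
      show ι ⟨((b : MulAut R) ((a : MulAut R) (((b : MulAut R)⁻¹) x)) : R), _⟩ = _
      rw [h2, h3, h4]
      group
    have hKp : IsPGroup p K := by
      rintro ⟨a, y, hy, h1⟩
      obtain ⟨k, hk⟩ := hpp ⟨y, hy⟩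
      have hk' : y ^ p ^ k = 1 := by
        have := congrArg Subtype.val hk
        simpa using this
      refine ⟨k, Subtype.ext (Subtype.ext (MulEquiv.ext fun x => Subtype.ext ?_))⟩
      have hpow : ∀ (m : ℕ) (x : R), ι ⟨(((a : MulAut R) ^ m) x : R),
          hRN (((a : MulAut R) ^ m) x).2⟩ = y ^ m * ι ⟨x, hRN x.2⟩ * (y ^ m)⁻¹ := by
        intro m
        induction m with
        | zero => intro x; simp
        | succ m ih =>
          intro x
          have h2 : ((a : MulAut R) ^ (m + 1)) x = ((a : MulAut R) ^ m) ((a : MulAut R) x) := by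
            rw [pow_succ]; rfl
          have h3 : (⟨((((a : MulAut R) ^ (m + 1)) x : R) : Ω),
            hRN (((a : MulAut R) ^ (m + 1)) x).2⟩ : ↥(normalizerIn S R)) =
            ⟨((((a : MulAut R) ^ m) ((a : MulAut R) x) : R) : Ω), hRN (((a : MulAut R) ^ m) ((a : MulAut R) x)).2⟩ :=
            Subtype.ext (congrArg (fun z : R => (z : Ω)) h2)
          rw [h3, ih, h1, pow_succ]
          group
      have h4 := hpow (p ^ k) x
      rw [hk'] at h4
      have h5 := hinj (h4.trans (by simp : 1 * ι ⟨x, hRN x.2⟩ * (1 : G)⁻¹ = ι ⟨x, hRN x.2⟩))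
      exact congrArg (fun z : ↥(normalizerIn S R) => (z : Ω)) h5
    have hKle : K ≤ pCore p (F.autGroup R) := Cfsg.Agent.Lib.Cores.le_pCore hKn hKp
    intro y hy
    obtain ⟨n, rfl⟩ := hpc y hy
    obtain ⟨α, hα⟩ := H802.exists_conjAut n.2.2
    have hαF : α ∈ F.autGroup R := H802.autInducedBy_le_autGroup F hRS
      ((H802.mem_autInducedBy_iff S R α).2 ⟨n, n.2.1, hα⟩)
    have hαK : (⟨α, hαF⟩ : F.autGroup R) ∈ K := by
      refine ⟨ι n, hy, fun x => ?_⟩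
      rw [← map_inv, ← map_mul, ← map_mul]
      congr 1
      exact Subtype.ext (hα x)
    have hαI : α ∈ Inn R := by
      rw [← hRr.2]
      exact ⟨⟨α, hαF⟩, hKle hαK, rfl⟩
    have h6 := H802.mem_of_conj_mem_inn hRS (hRc.2 R (H802.isConj_refl F hRS)) n.2.1 hα hαI
    exact ⟨n, h6, rfl⟩
  · -- `ι(R) ≤ O_p(G)`
    refine Cfsg.Agent.Lib.Cores.le_pCore hRnormal ?_
    have h1 : (R.subgroupOf (normalizerIn S R)).map ι ≤ (T : Subgroup G) := by
      rw [hT]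
      rintro _ ⟨x, -, rfl⟩
      exact ⟨x, rfl⟩
    exact T.2.to_le h1

end Cfsg.Agent.H753
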