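import Cfsg.Agent.H638.G2Iso
import Cfsg.Agent.S1055
import Cfsg.Agent.S1057
import Cfsg.Agent.S0280
import Cfsg.Agent.S0283
import Cfsg.Agent.S1077
set_option linter.all false

/-!
# `3'`-subgroups normal in a group between `G₂(F)'` and `G₂(F)` (helper753, for S2732)
-/

set_option autoImplicit false

namespace Cfsg.Agent.H753.GTwoCore

open Cfsg Cfsg.Lie Subgroup

theorem core_eq_bot {G : Type*} [Group G] [Finite G] (hS : IsSimpleGroup (commutator G))
    (hZ : centralizer ((commutator G : Subgroup G) : Set G) = ⊥) (h3 : 3 ∣ Nat.card (commutator G))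
    (H M : Subgroup G) (hH : commutator G ≤ H) (hn : ∀ c ∈ H, ∀ a ∈ M, c * a * c⁻¹ ∈ M)
    (hc : (Nat.card M).Coprime 3) : M = ⊥ := by
  have hN : (M.subgroupOf (commutator G)).Normal := by
    constructor
    intro a ha g
    rw [mem_subgroupOf] at ha ⊢
    exact hn g (hH g.2) a ha
  have hbot : M.subgroupOf (commutator G) = ⊥ := by
    rcases hN.eq_bot_or_eq_top with h | h
    · exact h
    · exfalso
      have h1 : commutator G ≤ M := subgroupOf_eq_top.1 h
      have h2 := h3.trans (Subgroup.card_dvd_of_le h1)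
      have h4 := Nat.dvd_gcd h2 (dvd_refl 3)
      rw [hc] at h4
      omega
  have hinf : ∀ g ∈ M, g ∈ commutator G → g = 1 := by
    intro g hg hg'
    have h1 : (⟨g, hg'⟩ : commutator G) ∈ M.subgroupOf (commutator G) := hg
    rw [hbot, mem_bot] at h1
    exact congrArg Subtype.val h1
  rw [eq_bot_iff, ← hZ]
  intro m hm
  rw [mem_centralizer_iff]
  intro g hg
  have hn' : (commutator G).Normal := inferInstance
  have h1 : g * m * g⁻¹ * m⁻¹ = 1 := by
    apply hinf
    · exact M.mul_mem (hn g (hH hg) m hm) (M.inv_mem hm)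
    · have h2 : g * m * g⁻¹ * m⁻¹ = g * (m * g⁻¹ * m⁻¹) := by group
      rw [h2]
      exact mul_mem hg (hn'.conj_mem _ (inv_mem hg) m)
  have h2 : g * m * g⁻¹ = m := by rw [← mul_inv_eq_one, h1]
  calc g * m = g * m * g⁻¹ * g := by group
    _ = m * g := by rw [h2]

theorem not_comm_commutator {G : Type*} [Group G] (hS : IsSimpleGroup G) (hc : ¬ IsMulCommutative G) :
    commutator G = ⊤ := by
  rcases (inferInstance : (commutator G).Normal).eq_bot_or_eq_top with h | h
  · exfalso
    apply hc
    constructor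
    constructor
    intro a b
    have h1 : a * b * a⁻¹ * b⁻¹ ∈ commutator G := commutator_mem_commutator (mem_top a) (mem_top b)
    rw [h, mem_bot, mul_inv_eq_one, mul_inv_eq_iff_eq_mul] at h1
    exact h1
  · exact h

theorem centralizer_eq_bot {G : Type*} [Group G] [Finite G] (hS : IsSimpleGroup (commutator G))
    (hc : ¬ IsMulCommutative (commutator G)) (hZ : center G = ⊥)
    (hcard : Nat.card G = 2 * Nat.card (commutator G)) :
    centralizer ((commutator G : Subgroup G) : Set G) = ⊥ := by
  set C := centralizer ((commutator G : Subgroup G) : Set G) with hC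
  have hCn : C.Normal := inferInstance
  have hinf : C ⊓ commutator G = ⊥ := by
    have h1 : (C.subgroupOf (commutator G)).Normal := inferInstance
    rcases h1.eq_bot_or_eq_top with h | h
    · exact subgroupOf_eq_bot.1 h |>.eq_bot
    · exfalso
      apply hc
      constructor
      constructor
      intro a b
      have h2 : commutator G ≤ C := subgroupOf_eq_top.1 h
      exact Subtype.ext (mem_centralizer_iff.1 (h2 b.2) a a.2)
  have hle : Nat.card C ≤ 2 := by
    have h1 : Function.Injective ((QuotientGroup.mk' (commutator G)).comp C.subtype) := by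
      rw [← MonoidHom.ker_eq_bot_iff, eq_bot_iff]
      intro c hc'
      have h2 : (c : G) ∈ commutator G := (QuotientGroup.eq_one_iff _).1 hc'
      have h3 : (c : G) ∈ C ⊓ commutator G := mem_inf.2 ⟨c.2, h2⟩
      rw [hinf, mem_bot] at h3
      exact Subtype.ext h3
    have h2 := Nat.card_le_card_of_injective _ h1
    have h3 := (commutator G).index_mul_card
    rw [hcard] at h3
    have h4 : (commutator G).index = 2 := Nat.eq_of_mul_eq_mul_right Nat.card_pos h3
    rw [Subgroup.index_eq_card] at h4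
    omega
  rw [eq_bot_iff, ← hZ]
  intro c hc'
  rw [mem_center_iff]
  intro g
  rcases eq_or_ne c 1 with rfl | hc1
  · rw [mul_one, one_mul]
  have h2 : Nat.card C = 2 := by
    have h3 : 1 < Nat.card C := by
      rw [Subgroup.one_lt_card_iff_ne_bot]
      rintro h4
      rw [h4, mem_bot] at hc'
      exact hc1 hc'
    omega
  obtain ⟨x, y, -, hxy⟩ := Nat.card_eq_two_iff.1 h2
  have h3 : g * c * g⁻¹ ∈ C := hCn.conj_mem c hc' g
  have h4 : g * c * g⁻¹ ≠ 1 := by
    intro h5
    exact hc1 (by rwa [conj_eq_one_iff] at h5)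
  have m1 : (1 : C) ∈ ({x, y} : Set C) := by rw [hxy]; trivial
  have m2 : (⟨c, hc'⟩ : C) ∈ ({x, y} : Set C) := by rw [hxy]; trivial
  have m3 : (⟨g * c * g⁻¹, h3⟩ : C) ∈ ({x, y} : Set C) := by rw [hxy]; trivial
  simp only [Set.mem_insert_iff, Set.mem_singleton_iff] at m1 m2 m3
  have h5 : g * c * g⁻¹ = c := by
    have n2 : (⟨c, hc'⟩ : C) ≠ 1 := fun h => hc1 (congrArg Subtype.val h)
    have n3 : (⟨g * c * g⁻¹, h3⟩ : C) ≠ 1 := fun h => h4 (congrArg Subtype.val h)
    have : (⟨g * c * g⁻¹, h3⟩ : C) = ⟨c, hc'⟩ := by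
      rcases m1 with m1 | m1 <;> rcases m2 with m2 | m2 <;> rcases m3 with m3 | m3 <;>
        first
        | exact absurd (m2.trans m1.symm) n2
        | exact absurd (m3.trans m1.symm) n3
        | exact m3.trans m2.symm
    exact congrArg Subtype.val this
  calc g * c = g * c * g⁻¹ * g := by group
    _ = c * g := by rw [h5]

theorem two_or {F : Type*} [Field F] [Finite F] : Nat.card F = 2 ∨ ∃ a : F, a ≠ 0 ∧ a ≠ 1 := by
  classical
  have : Fintype F := Fintype.ofFinite F
  rw [Nat.card_eq_fintype_card]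
  rcases eq_or_ne (Fintype.card F) 2 with h | h
  · exact Or.inl h
  · right
    have h1 : 1 < Fintype.card F := Fintype.one_lt_card
    have h2 : ({0, 1} : Finset F).card < Fintype.card F := by
      rw [Finset.card_pair zero_ne_one]
      omega
    obtain ⟨a, ha⟩ := Finset.exists_mem_notMem_of_card_lt_card (s := ({0, 1} : Finset F)) (t := Finset.univ) (by
      rw [Finset.card_univ]; exact h2)
    simp only [Finset.mem_univ, Finset.mem_insert, Finset.mem_singleton, not_or, true_and] at ha
    exact ⟨a, ha.1, ha.2⟩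

theorem center_eq_bot {F : Type*} [Field F] [Finite F] : center (Cfsg.Lie.G2 F) = ⊥ := by
  obtain ⟨e⟩ := Cfsg.Agent.H638.G2Iso.equiv (F := F)
  have h := Cfsg.Agent.S1077.center_group_eq_bot (K := F) (D := chevG2) (by
    simp [Cfsg.Agent.ChevalleyStructure.Elts.InList])
  rw [eq_bot_iff]
  intro g hg
  have h1 : e g ∈ center (chevG2.group F) := by
    rw [mem_center_iff] at hg ⊢
    intro y
    rw [← e.apply_symm_apply y, ← map_mul, ← map_mul, hg]
  rw [h, mem_bot] at h1
  rw [mem_bot]
  exact e.injective (by rw [h1, map_one])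

theorem three_dvd (q : ℕ) (hq : 1 ≤ q) : 3 ∣ q ^ 6 * (q ^ 2 - 1) * (q ^ 6 - 1) := by
  rcases Nat.lt_or_ge (q % 3) 1 with h | h
  · have h1 : 3 ∣ q := Nat.dvd_of_mod_eq_zero (by omega)
    exact Dvd.dvd.mul_right (Dvd.dvd.mul_right (dvd_pow h1 (by norm_num)) _) _
  · have h1 : 3 ∣ q ^ 2 - 1 := by
      have h2 : 1 ≤ q ^ 2 := Nat.one_le_pow _ _ hq
      rw [← Nat.modEq_iff_dvd' h2]
      have h3 : q % 3 = 1 ∨ q % 3 = 2 := by omega
      rcases h3 with h3 | h3
      · exact (Nat.ModEq.pow 2 (show q ≡ 1 [MOD 3] from h3)).symm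
      · exact ((Nat.ModEq.pow 2 (show q ≡ 2 [MOD 3] from h3)).trans (by decide)).symm
    exact Dvd.dvd.mul_right (Dvd.dvd.mul_left h1 _) _

end Cfsg.Agent.H753.GTwoCore

namespace Cfsg.Agent.H753

open Cfsg Cfsg.Lie Subgroup GTwoCore

universe u

set_option linter.unusedVariables false in
/-- A `3'`-subgroup which is normal in a group between `G₂(F)'` and `G₂(F)` is trivial. -/
theorem G2_core {F : Type u} [Field F] [Finite F] (H M : Subgroup ↥(Cfsg.Lie.G2 F))
    (hH : commutator ↥(Cfsg.Lie.G2 F) ≤ H) (hM : M ≤ H) (hn : ∀ c ∈ H, ∀ a ∈ M, c * a * c⁻¹ ∈ M)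
    (hc : (Nat.card M).Coprime 3) : M = ⊥ := by
  obtain ⟨e⟩ := Cfsg.Agent.H638.G2Iso.equiv (F := F)
  have hcard := Cfsg.Agent.H638.G2Iso.card_G2 (F := F)
  have hpos : 0 < Nat.card (Cfsg.Lie.G2 F) := by
    rw [hcard]
    have h1 : 1 < Nat.card F := Finite.one_lt_card
    have h2 : 1 < Nat.card F ^ 2 := Nat.one_lt_pow (by norm_num) h1
    have h3 : 1 < Nat.card F ^ 6 := Nat.one_lt_pow (by norm_num) h1
    have h4 : 0 < Nat.card F ^ 2 - 1 := by omega
    have h5 : 0 < Nat.card F ^ 6 - 1 := by omega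
    positivity
  have hfin : Finite (Cfsg.Lie.G2 F) := Nat.finite_of_card_ne_zero hpos.ne'
  rcases two_or (F := F) with h2 | hF
  · -- `|F| = 2`
    have iF : Fintype F := Fintype.ofFinite F
    have h2' : Fintype.card F = 2 := by rw [← Nat.card_eq_fintype_card, h2]
    have iK : Fintype (GaloisField 3 2) := Fintype.ofFinite _
    have hK : Fintype.card (GaloisField 3 2) = 9 := by
      rw [← Nat.card_eq_fintype_card, GaloisField.card 3 2 (by norm_num)]
      rfl
    obtain ⟨e1⟩ := Cfsg.Agent.S1057.result h2' hK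
    obtain ⟨e2⟩ := Cfsg.Agent.S1057.commutator_equiv e
    have e3 := e2.trans e1
    have hS' : IsSimpleGroup (Cfsg.PSU 3 (GaloisField 3 2) 3) :=
      Cfsg.Agent.S0283.result (q := 3) (by rw [hK]; rfl) 3 le_rfl (by norm_num)
    have hS : IsSimpleGroup (commutator (Cfsg.Lie.G2 F)) := e3.isSimpleGroup
    have hcard' : Nat.card (commutator (Cfsg.Lie.G2 F)) = 6048 := by
      rw [Nat.card_congr e3.toEquiv]
      have h5 := Cfsg.Agent.S0280.result (F := GaloisField 3 2) (q := 3) (by rw [hK]; norm_num) 3 (by norm_num)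
      simp only [Finset.prod_range_succ, Finset.prod_range_zero] at h5
      norm_num [Nat.even_iff] at h5
      omega
    refine core_eq_bot hS (centralizer_eq_bot hS ?_ center_eq_bot ?_) (by rw [hcard']; norm_num) H M hH hn hc
    · intro h5
      let _ : CommGroup (commutator (Cfsg.Lie.G2 F)) :=
        { (inferInstance : Group (commutator (Cfsg.Lie.G2 F))) with mul_comm := h5.is_comm.comm }
      have h6 := IsSimpleGroup.prime_card (α := commutator (Cfsg.Lie.G2 F))
      rw [hcard'] at h6
      revert h6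
      norm_num
    · rw [hcard', hcard, h2]
      norm_num
  · -- `|F| > 2`
    obtain ⟨hS0, hnc⟩ := Cfsg.Agent.S1055.result hF
    have hS : IsSimpleGroup (Cfsg.Lie.G2 F) := e.isSimpleGroup
    have hnc' : ¬ IsMulCommutative (Cfsg.Lie.G2 F) := by
      intro h
      apply hnc
      constructor
      constructor
      intro a b
      have h1 := h.is_comm.comm (e.symm a) (e.symm b)
      apply e.symm.injective
      rw [map_mul, map_mul, h1]
    have htop := not_comm_commutator hS hnc'
    refine core_eq_bot ?_ ?_ ?_ H M hH hn hc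
    · rw [htop]
      exact Subgroup.topEquiv.isSimpleGroup
    · rw [htop, coe_top, centralizer_univ, center_eq_bot]
    · rw [htop, Subgroup.card_top, hcard]
      exact three_dvd _ Nat.card_pos

end Cfsg.Agent.H753
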