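import Cfsg.Agent.H498.Ab.RowU
import Cfsg.Agent.H968.TwoReeB
import Cfsg.Agent.H71.RoRee
import Cfsg.Agent.ClassicalGeometry.PSL2Basic
import Cfsg.Agent.FastGrp
import Cfsg.Agent.Prune
set_option linter.all false
prune_inst 0x7f00000000000000000000000000000000000000000000000000000000000000000000000000000000000000000000000000000000000000000000000000000000000000000000000000000000000000003fffffffffffffffffffffffffffbeffbdffffffff
open scoped Cfsg.Agent.FastGrp

/-!
# Abelian subgroups of the small Ree groups (helper753, for S2501)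
-/

set_option autoImplicit false

namespace Cfsg.Agent.H753.AbRee

open Subgroup Cfsg.Agent.H498.Ab Cfsg.Agent.H968.TwoRee
open Cfsg.Agent.LieRecognition.ReeAbs Cfsg.Agent.LieRecognition.ReeSylowThree Cfsg.Agent.LieRecognition.ReeSplit
open Cfsg.Agent.FixBN.RankOneRee

/-- an abelian subgroup of order divisible by `r` has at most `|N(C)|` elements -/
theorem card_le_of_prime {G : Type*} [Group G] [Finite G] {r : ℕ} (hr : r.Prime) (C : Subgroup G)
    (hC : (Nat.card C).factorization r = (Nat.card G).factorization r)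
    (hall : ∀ A₀ : Subgroup G, A₀ ≤ C → A₀ ≠ ⊥ → normalizer (A₀ : Set G) = normalizer (C : Set G))
    {A : Subgroup G} (hA : IsMulCommutative A) (hrA : r ∣ Nat.card A) :
    Nat.card A ≤ Nat.card (normalizer (C : Set G)) := by
  have : Fact r.Prime := ⟨hr⟩
  obtain ⟨x, hx⟩ := exists_prime_orderOf_dvd_card' r hrA
  have hX : Nat.card (zpowers (x : G)) = r := by
    rw [Nat.card_zpowers, Subgroup.orderOf_coe, hx]
  obtain ⟨g, hg⟩ := exists_conj_le hr C (zpowers (x : G)) hC hX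
  have h1 : A ≤ normalizer ((zpowers (x : G) : Subgroup G) : Set G) := by
    intro a ha
    refine Subgroup.centralizer_le_normalizer _ ?_
    rw [Subgroup.mem_centralizer_iff]
    intro y hy
    obtain ⟨k, rfl⟩ := Subgroup.mem_zpowers_iff.1 hy
    have h2 : Commute ((x : G)) a := comm_iff.1 hA _ x.2 _ ha
    exact (h2.zpow_left k).eq
  have h2 := card_normalizer_conj (zpowers (x : G)) g
  rw [hall _ hg ?_] at h2
  · rw [h2]
    exact Subgroup.card_le_of_le h1
  · intro hbot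
    have h3 : Nat.card ((zpowers (x : G)).map (MulAut.conj g).toMonoidHom) = r := by
      rw [Subgroup.card_map_of_injective (MulAut.conj g).injective, hX]
    rw [hbot, Subgroup.card_bot] at h3
    exact hr.one_lt.ne h3

theorem factorization_eq {r a b : ℕ} (ha : a ≠ 0) (hb : b ≠ 0) (h : ¬ r ∣ b) :
    a.factorization r = (a * b).factorization r := by
  rw [Nat.factorization_mul ha hb, Finsupp.add_apply, Nat.factorization_eq_zero_of_not_dvd h, add_zero]

section unip

variable {K : Type*} [Field K] {G : Type*} [Group G] {m : ℕ} {U : K → K → K → G} {h : Kˣ → G} {n : G}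

theorem card_le_of_le_uSub [Fintype K] (D : Data m U h n) {A : Subgroup G} (hA : IsMulCommutative A)
    (hAU : A ≤ uSub D) : Nat.card A ≤ Fintype.card K ^ 2 := by
  have hfin : Finite G := finite D
  have hcoord : ∀ a : A, ∃ t u v, (a : G) = U t u v := fun a => hAU a.2
  choose t u v htuv using hcoord
  have hK2 : Nat.card (K × K) = Fintype.card K ^ 2 := by
    rw [Nat.card_prod, Nat.card_eq_fintype_card, sq]
  by_cases h0 : ∀ a, t a = 0
  · rw [← hK2]
    refine Nat.card_le_card_of_injective (fun a => (u a, v a)) ?_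
    intro a b hab
    apply Subtype.ext
    rw [htuv a, htuv b, h0 a, h0 b, (Prod.mk.inj hab).1, (Prod.mk.inj hab).2]
  · push Not at h0
    obtain ⟨x, hx⟩ := h0
    rw [← hK2]
    refine Nat.card_le_card_of_injective (fun a => (t a, v a)) ?_
    intro a b hab
    obtain ⟨h1, h2⟩ := Prod.mk.inj hab
    have h3 : (a : G)⁻¹ * (b : G) ∈ Cfsg.Agent.H71.RoRee.vSub D := by
      rw [htuv a, htuv b, Cfsg.Agent.H71.RoRee.inv_mul_mem]
      exact h1
    obtain ⟨y, w, hyw⟩ := h3
    have h4 : (x : G) * ((a : G)⁻¹ * (b : G)) = ((a : G)⁻¹ * (b : G)) * x :=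
      comm_iff.1 hA _ x.2 _ (mul_mem (inv_mem a.2) b.2)
    rw [hyw, htuv x, D.U_mul, D.U_mul] at h4
    obtain ⟨-, -, h5⟩ := U_injective D h4
    rw [zero_pow' m] at h5
    have h6 : y * t x = 0 := by linear_combination h5
    have h7 : y = 0 := (mul_eq_zero.1 h6).resolve_right hx
    subst h7
    have h8 : (b : G) = U (t a) (u a) (v a + w) := by
      have h9 : (b : G) = (a : G) * ((a : G)⁻¹ * (b : G)) := by group
      rw [h9, hyw]
      conv_lhs => rw [htuv a]
      rw [U_split' D]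
    rw [htuv b] at h8
    obtain ⟨-, h9, h10⟩ := U_injective D h8
    have h11 : w = 0 := by
      rw [← h2] at h10
      linear_combination -h10
    apply Subtype.ext
    rw [htuv b, htuv a, h1, h9, h2]

end unip

theorem ab3_of_facts {G : Type*} [Group G] [Finite G] {q r : ℕ} (h27 : 27 ≤ q) (h8 : q % 8 = 3) (hr9 : 9 ≤ r)
    (hqr : r * r = 3 * q) (hq3 : ∀ p : ℕ, p.Prime → p ∣ q → p = 3) (hr3 : ∀ p : ℕ, p.Prime → p ∣ r → p = 3)
    (h3q : 3 ∣ q) (hcard : Nat.card G = q ^ 3 * (q - 1) * (q ^ 3 + 1))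
    (hcent : ∀ x : G, orderOf x = 2 → Nat.card (centralizer ({x} : Set G)) = q * (q ^ 2 - 1))
    (hnorm : ∀ p : ℕ, p.Prime → p ≠ 2 → p ∣ q - 1 → ∀ X : Subgroup G, Nat.card X = p →
      Nat.card (normalizer (X : Set G)) = 2 * (q - 1))
    (hN2 : ∃ C : Subgroup G, Nat.card C = (q + 1) / 4 ∧ Nat.card (normalizer (C : Set G)) = 6 * (q + 1) ∧
      ∀ A₀ : Subgroup G, A₀ ≤ C → A₀ ≠ ⊥ → normalizer (A₀ : Set G) = normalizer (C : Set G))
    (hN3 : ∃ C : Subgroup G, Nat.card C = q - r + 1 ∧ Nat.card (normalizer (C : Set G)) = 6 * (q - r + 1) ∧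
      ∀ A₀ : Subgroup G, A₀ ≤ C → A₀ ≠ ⊥ → normalizer (A₀ : Set G) = normalizer (C : Set G))
    (hN4 : ∃ C : Subgroup G, Nat.card C = q + r + 1 ∧ Nat.card (normalizer (C : Set G)) = 6 * (q + r + 1) ∧
      ∀ A₀ : Subgroup G, A₀ ≤ C → A₀ ≠ ⊥ → normalizer (A₀ : Set G) = normalizer (C : Set G))
    (huni : ∀ A : Subgroup G, IsMulCommutative A → IsPGroup 3 A → Nat.card A ≤ q ^ 2)
    (hdvd : ∀ A : Subgroup G, Nat.card A ∣ q ^ 3 → IsPGroup 3 A) : Ab3 G := by
  obtain ⟨q', rfl⟩ : ∃ q', q = q' + 1 := ⟨q - 1, by (clear * - h8; omega)⟩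
  set q := q' + 1 with hq
  have h3r : 3 * r ≤ q := by nlinarith only [hr9, hqr]
  have hrq : r ≤ q := by (clear * - h3r; omega)
  have hq'0 : 0 < q' := by (clear * - h8; omega)
  obtain ⟨a, ha⟩ : ∃ a, q - r + 1 = a := ⟨_, rfl⟩
  have ha' : a + r = q + 1 := by (clear * - hrq ha; omega)
  set b := q + r + 1 with hb
  have hab : a * b + q = q ^ 2 + 1 := by
    have h1 : a * b + r * b = (q + 1) * b := by rw [← add_mul, ha']
    have h2 : r * b = r * q + 3 * q + r := by rw [hb]; ring_nf; rw [sq, hqr]; ring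
    have h3 : (q + 1) * b = q ^ 2 + 2 * q + 1 + r * q + r := by rw [hb]; ring
    (clear * - h1 h2 h3; omega)
  have hcube : q ^ 3 + 1 = (q + 1) * (a * b) := by
    have h1 : (q + 1) * (a * b) + (q + 1) * q = (q + 1) * (q ^ 2 + 1) := by rw [← mul_add, hab]
    have h2 : (q + 1) * q = q ^ 2 + q := by ring
    have h3 : (q + 1) * (q ^ 2 + 1) = q ^ 3 + q ^ 2 + q + 1 := by ring
    (clear * - h1 h2 h3; omega)
  have hG : Nat.card G = q ^ 3 * q' * ((q + 1) * (a * b)) := by
    rw [hcard, hcube]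
    rfl
  have hq4 : q + 1 = 4 * ((q + 1) / 4) := by (clear * - h8; omega)
  have hq2 : q' = 2 * (q' / 2) := by (clear * - h8; omega)
  have hbig : ∀ x : ℕ, x ≤ 12 * q → x ^ 3 < Nat.card G := by
    intro x hx
    rw [hG, ← hcube]
    have h1 : x ^ 3 ≤ (12 * q) ^ 3 := Nat.pow_le_pow_left hx 3
    have h2 : (12 * q) ^ 3 = q ^ 3 * 1728 := by ring
    have h3 : 27 ^ 3 ≤ q ^ 3 := Nat.pow_le_pow_left h27 3
    have h4 : 1728 < q' * (q ^ 3 + 1) := by nlinarith only [h27, hq, h3]
    have h5 : 0 < q ^ 3 := by positivity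
    rw [mul_assoc]
    calc x ^ 3 ≤ q ^ 3 * 1728 := by rw [← h2]; exact h1
      _ < q ^ 3 * (q' * (q ^ 3 + 1)) := Nat.mul_lt_mul_of_pos_left h4 h5
  have ha0' : 0 < a := by (clear * - ha; omega)
  have hb0' : 0 < b := by (clear * -; omega)
  have ha0 : a ≠ 0 := by (clear * - ha; omega)
  have hb0 : b ≠ 0 := by (clear * -; omega)
  have h5 : ∀ p : ℕ, p.Prime → p ≠ 2 → p ≠ 3 → ∀ A : Subgroup G, IsMulCommutative A → p ∣ Nat.card A →
      Nat.card A ≤ 12 * q := by
    intro p hp hp2 hp3 A hA hpA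
    have hpq : ¬ p ∣ q := fun h => hp3 (hq3 p hp h)
    have hpr : ¬ p ∣ r := fun h => hp3 (hr3 p hp h)
    have hpG : p ∣ q ^ 3 * q' * ((q + 1) * (a * b)) := hG ▸ hpA.trans (Subgroup.card_subgroup_dvd_card A)
    have hp4 : ¬ p ∣ 2 := fun h => hp2 ((Nat.prime_dvd_prime_iff_eq hp Nat.prime_two).1 h)
    have hp5 : ¬ p ∣ 3 := fun h => hp3 ((Nat.prime_dvd_prime_iff_eq hp Nat.prime_three).1 h)
    have hp6 : ¬ p ∣ 4 := fun h => hp4 (by
      have : p ∣ 2 ^ 2 := h
      exact hp.dvd_of_dvd_pow this)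
    -- pairwise coprimality
    have c1 : p ∣ q' → ¬ p ∣ q + 1 := by
      intro h1 h2
      apply hp4
      have : q + 1 = q' + 2 := by omega
      rw [this] at h2
      exact (Nat.dvd_add_right h1).1 h2
    have c2 : p ∣ q' → ¬ p ∣ a * b := by
      intro h1 h2
      have h3 : a * b = q' * q + 1 := by
        have : q ^ 2 + 1 = q' * q + q + 1 := by rw [hq]; ring
        (clear * - hab this; omega)
      rw [h3] at h2
      exact hp.one_lt.ne' (Nat.dvd_one.1 ((Nat.dvd_add_right (h1.mul_right q)).1 h2))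
    have c3 : p ∣ q + 1 → ¬ p ∣ a * b := by
      intro h1 h2
      apply hp5
      have h3 : a * b + 3 * q = (q + 1) ^ 2 := by
        have : (q + 1) ^ 2 = q ^ 2 + 2 * q + 1 := by ring
        (clear * - hab this; omega)
      have h4 : p ∣ a * b + 3 * q := by rw [h3]; exact h1.trans (dvd_pow_self _ (by norm_num))
      have h5 := (Nat.dvd_add_right h2).1 h4
      exact (hp.dvd_mul.1 h5).resolve_right hpq
    have c4 : p ∣ a → ¬ p ∣ b := by
      intro h1 h2
      have h3 : b = a + 2 * r := by (clear * - ha'; omega)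
      rw [h3] at h2
      have h4 := (Nat.dvd_add_right h1).1 h2
      rcases hp.dvd_mul.1 h4 with h | h
      · exact hp4 h
      · exact hpr h
    by_cases d1 : p ∣ q'
    · -- `q - 1`
      have : Fact p.Prime := ⟨hp⟩
      obtain ⟨x, hx⟩ := exists_prime_orderOf_dvd_card' p hpA
      have hX : Nat.card (zpowers (x : G)) = p := by
        rw [Nat.card_zpowers, Subgroup.orderOf_coe, hx]
      have h1 : A ≤ normalizer ((zpowers (x : G) : Subgroup G) : Set G) := by
        intro a ha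
        refine Subgroup.centralizer_le_normalizer _ ?_
        rw [Subgroup.mem_centralizer_iff]
        intro y hy
        obtain ⟨k, rfl⟩ := Subgroup.mem_zpowers_iff.1 hy
        have h2 : Commute ((x : G)) a := comm_iff.1 hA _ x.2 _ ha
        exact (h2.zpow_left k).eq
      have h2 := hnorm p hp hp2 d1 _ hX
      have h3 := Subgroup.card_le_of_le h1
      rw [h2] at h3
      (clear * - h3; omega)
    by_cases d2 : p ∣ q + 1
    · obtain ⟨C, hC1, hC2, hC3⟩ := hN2
      have h1 := card_le_of_prime hp C ?_ hC3 hA hpA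
      · rw [hC2] at h1
        (clear * - h1; omega)
      · rw [hC1, hG]
        have e : q ^ 3 * q' * ((q + 1) * (a * b)) = ((q + 1) / 4) * (4 * (q ^ 3 * q' * (a * b))) := by
          conv_lhs => rw [hq4]
          ring
        rw [e]
        refine factorization_eq (by (clear * - hq4; omega)) (by (clear * - hq'0 ha0'; positivity)) ?_
        intro h
        rcases hp.dvd_mul.1 h with h | h
        · exact hp6 h
        · rcases hp.dvd_mul.1 h with h | h
          · rcases hp.dvd_mul.1 h with h | h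
            · exact hpq (hp.dvd_of_dvd_pow h)
            · exact d1 h
          · exact c3 d2 h
    by_cases d3 : p ∣ a
    · obtain ⟨C, hC1, hC2, hC3⟩ := hN3
      have h1 := card_le_of_prime hp C ?_ hC3 hA hpA
      · rw [hC2] at h1
        (clear * - h1; omega)
      · rw [hC1, hG, ha]
        have e : q ^ 3 * q' * ((q + 1) * (a * b)) = a * (q ^ 3 * q' * ((q + 1) * b)) := by ring
        rw [e]
        refine factorization_eq ha0 (by (clear * - hq'0; positivity)) ?_
        intro h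
        rcases hp.dvd_mul.1 h with h | h
        · rcases hp.dvd_mul.1 h with h | h
          · exact hpq (hp.dvd_of_dvd_pow h)
          · exact d1 h
        · rcases hp.dvd_mul.1 h with h | h
          · exact d2 h
          · exact c4 d3 h
    have d4 : p ∣ b := by
      rcases hp.dvd_mul.1 hpG with h | h
      · rcases hp.dvd_mul.1 h with h | h
        · exact absurd (hp.dvd_of_dvd_pow h) hpq
        · exact absurd h d1
      · rcases hp.dvd_mul.1 h with h | h
        · exact absurd h d2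
        · exact (hp.dvd_mul.1 h).resolve_left d3
    obtain ⟨C, hC1, hC2, hC3⟩ := hN4
    have h1 := card_le_of_prime hp C ?_ hC3 hA hpA
    · rw [hC2] at h1
      (clear * - h3r h1; omega)
    · rw [hC1, hG]
      have e : q ^ 3 * q' * ((q + 1) * (a * b)) = b * (q ^ 3 * q' * ((q + 1) * a)) := by ring
      rw [e]
      refine factorization_eq hb0 (by (clear * - hq'0 ha0'; positivity)) ?_
      intro h
      rcases hp.dvd_mul.1 h with h | h
      · rcases hp.dvd_mul.1 h with h | h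
        · exact hpq (hp.dvd_of_dvd_pow h)
        · exact d1 h
      · rcases hp.dvd_mul.1 h with h | h
        · exact d2 h
        · exact d3 h
  intro A hA
  by_cases hex : ∃ p : ℕ, p.Prime ∧ p ≠ 2 ∧ p ≠ 3 ∧ p ∣ Nat.card A
  · obtain ⟨p, hp, hp2, hp3, hpA⟩ := hex
    exact hbig _ (h5 p hp hp2 hp3 A hA hpA)
  push Not at hex
  by_cases h2A : 2 ∣ Nat.card A
  · have : Fact (Nat.Prime 2) := ⟨Nat.prime_two⟩
    obtain ⟨x, hx⟩ := exists_prime_orderOf_dvd_card' 2 h2A
    have h1 : A ≤ centralizer ({(x : G)} : Set G) := by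
      intro a ha
      rw [mem_centralizer_singleton_iff]
      exact comm_iff.1 hA _ ha _ x.2
    have h2 := Subgroup.card_dvd_of_le h1
    rw [hcent _ (by rw [Subgroup.orderOf_coe]; exact hx)] at h2
    have h3 : q * (q ^ 2 - 1) = 8 * q * (((q + 1) / 4) * (q' / 2)) := by
      have e1 : q ^ 2 - 1 = (q + 1) * q' := by
        have : q ^ 2 = (q + 1) * q' + 1 := by rw [hq]; ring
        omega
      rw [e1]
      conv_lhs => rw [hq4, hq2]
      ring
    rw [h3] at h2
    have h4 : Nat.Coprime (Nat.card A) (((q + 1) / 4) * (q' / 2)) := by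
      rw [Nat.Coprime, Nat.eq_one_iff_not_exists_prime_dvd]
      intro p hp hpd
      have hpA := hpd.trans (Nat.gcd_dvd_left _ _)
      have hpd := hpd.trans (Nat.gcd_dvd_right _ _)
      by_cases hp2 : p = 2
      · subst hp2
        rcases hp.dvd_mul.1 hpd with h | h <;> (clear * - h8 h; omega)
      by_cases hp3 : p = 3
      · subst hp3
        rcases hp.dvd_mul.1 hpd with h | h <;> (clear * - h8 h3q h; omega)
      exact hex p hp hp2 hp3 hpA
    have h5 := Nat.le_of_dvd (by positivity) (h4.dvd_of_dvd_mul_right h2)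
    exact hbig _ (by (clear * - h5; omega))
  · have h1 : Nat.card A ∣ q ^ 3 * (q' * ((q + 1) * (a * b))) := by
      rw [← mul_assoc, ← hG]
      exact Subgroup.card_subgroup_dvd_card A
    have h4 : Nat.Coprime (Nat.card A) (q' * ((q + 1) * (a * b))) := by
      rw [Nat.Coprime, Nat.eq_one_iff_not_exists_prime_dvd]
      intro p hp hpd
      have hpA := hpd.trans (Nat.gcd_dvd_left _ _)
      have hpd := hpd.trans (Nat.gcd_dvd_right _ _)
      by_cases hp2 : p = 2
      · subst hp2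
        exact h2A hpA
      by_cases hp3 : p = 3
      · subst hp3
        rw [← hcube] at hpd
        rcases hp.dvd_mul.1 hpd with h | h
        · (clear * - h3q h; omega)
        · have h6 : 3 ∣ q ^ 3 := h3q.trans (dvd_pow_self _ (by norm_num))
          have := (Nat.dvd_add_right h6).1 h
          (clear * - h h6; omega)
      exact hex p hp hp2 hp3 hpA
    have h5 := huni A hA (hdvd A (h4.dvd_of_dvd_mul_right h1))
    rw [hG, ← hcube]
    have h6 : (Nat.card A) ^ 3 ≤ (q ^ 2) ^ 3 := Nat.pow_le_pow_left h5 3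
    have h7 : (q ^ 2) ^ 3 = q ^ 3 * q ^ 3 := by ring
    have h8 : q ^ 3 < q' * (q ^ 3 + 1) := by nlinarith only [h27, hq, Nat.zero_le (q ^ 3)]
    have h9 : 0 < q ^ 3 := by positivity
    rw [mul_assoc]
    calc (Nat.card A) ^ 3 ≤ q ^ 3 * q ^ 3 := by rw [← h7]; exact h6
      _ < q ^ 3 * (q' * (q ^ 3 + 1)) := Nat.mul_lt_mul_of_pos_left h8 h9

theorem ab3_model {K : Type*} [Field K] [Fintype K] {m : ℕ} (hm : 1 ≤ m)
    (hK : Fintype.card K = 3 ^ (2 * m + 1)) : Ab3 ↥(Cfsg.Lie.twistedG2 K (3 ^ m)) := by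
  obtain ⟨U, h, n, D⟩ := Cfsg.Agent.ChevalleyStructure.Ree.Data.exists_data hK
  have hfin : Finite ↥(Cfsg.Lie.twistedG2 K (3 ^ m)) := finite D
  obtain ⟨P, hP⟩ := (Cfsg.Agent.H71.RoRee.ro hm hK D).syl
  have F := facts hm hK
  obtain ⟨_, _, hN2, hN3, hN4⟩ : ∃ _ : True, ∃ _ : True,
      (∃ C : Subgroup ↥(Cfsg.Lie.twistedG2 K (3 ^ m)), Nat.card C = (3 ^ (2 * m + 1) + 1) / 4 ∧
        Nat.card (normalizer (C : Set ↥(Cfsg.Lie.twistedG2 K (3 ^ m)))) = 6 * (3 ^ (2 * m + 1) + 1) ∧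
        ∀ A₀ : Subgroup ↥(Cfsg.Lie.twistedG2 K (3 ^ m)), A₀ ≤ C → A₀ ≠ ⊥ →
          normalizer (A₀ : Set ↥(Cfsg.Lie.twistedG2 K (3 ^ m))) =
            normalizer (C : Set ↥(Cfsg.Lie.twistedG2 K (3 ^ m)))) ∧
      (∃ C : Subgroup ↥(Cfsg.Lie.twistedG2 K (3 ^ m)), Nat.card C = 3 ^ (2 * m + 1) - 3 ^ (m + 1) + 1 ∧
        Nat.card (normalizer (C : Set ↥(Cfsg.Lie.twistedG2 K (3 ^ m)))) =
          6 * (3 ^ (2 * m + 1) - 3 ^ (m + 1) + 1) ∧
        ∀ A₀ : Subgroup ↥(Cfsg.Lie.twistedG2 K (3 ^ m)), A₀ ≤ C → A₀ ≠ ⊥ →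
          normalizer (A₀ : Set ↥(Cfsg.Lie.twistedG2 K (3 ^ m))) =
            normalizer (C : Set ↥(Cfsg.Lie.twistedG2 K (3 ^ m)))) ∧
      (∃ C : Subgroup ↥(Cfsg.Lie.twistedG2 K (3 ^ m)), Nat.card C = 3 ^ (2 * m + 1) + 3 ^ (m + 1) + 1 ∧
        Nat.card (normalizer (C : Set ↥(Cfsg.Lie.twistedG2 K (3 ^ m)))) =
          6 * (3 ^ (2 * m + 1) + 3 ^ (m + 1) + 1) ∧
        ∀ A₀ : Subgroup ↥(Cfsg.Lie.twistedG2 K (3 ^ m)), A₀ ≤ C → A₀ ≠ ⊥ →
          normalizer (A₀ : Set ↥(Cfsg.Lie.twistedG2 K (3 ^ m))) =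
            normalizer (C : Set ↥(Cfsg.Lie.twistedG2 K (3 ^ m)))) := by
    refine ⟨trivial, trivial, ?_, ?_, ?_⟩
    · obtain ⟨C, -, h1, h2, h3⟩ := Cfsg.Agent.S1158.result hm hK
        ((3 ^ (2 * m + 1) + 1) / 4, 6 * (3 ^ (2 * m + 1) + 1)) (by simp only [_root_.Set.mem_insert_iff, _root_.Prod.mk.injEq, _root_.mul_eq_mul_left_iff, _root_.Nat.add_right_cancel_iff, _root_.OfNat.ofNat_ne_zero, _root_.or_false, _root_.Set.mem_singleton_iff, _root_.Nat.left_eq_add, _root_.Nat.pow_eq_zero, _root_.ne_eq, _root_.Nat.add_eq_zero_iff, _root_.one_ne_zero, _root_.and_false, _root_.not_false_eq_true, _root_.and_true, _root_.or_self, _root_.true_or, _root_.or_true])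
      exact ⟨C, h1, h2, h3⟩
    · obtain ⟨C, -, h1, h2, h3⟩ := Cfsg.Agent.S1158.result hm hK
        (3 ^ (2 * m + 1) - 3 ^ (m + 1) + 1, 6 * (3 ^ (2 * m + 1) - 3 ^ (m + 1) + 1)) (by simp only [_root_.Set.mem_insert_iff, _root_.Prod.mk.injEq, _root_.mul_eq_mul_left_iff, _root_.Nat.add_right_cancel_iff, _root_.OfNat.ofNat_ne_zero, _root_.or_false, _root_.Set.mem_singleton_iff, _root_.and_self, _root_.true_or, _root_.or_true])
      exact ⟨C, h1, h2, h3⟩
    · obtain ⟨C, -, h1, h2, h3⟩ := Cfsg.Agent.S1158.result hm hK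
        (3 ^ (2 * m + 1) + 3 ^ (m + 1) + 1, 6 * (3 ^ (2 * m + 1) + 3 ^ (m + 1) + 1)) (by simp only [_root_.Set.mem_insert_iff, _root_.Prod.mk.injEq, _root_.mul_eq_mul_left_iff, _root_.Nat.add_right_cancel_iff, _root_.Nat.add_eq_left, _root_.Nat.pow_eq_zero, _root_.OfNat.ofNat_ne_zero, _root_.ne_eq, _root_.Nat.add_eq_zero_iff, _root_.one_ne_zero, _root_.and_false, _root_.not_false_eq_true, _root_.and_true, _root_.or_self, _root_.or_false, _root_.and_self, _root_.Set.mem_singleton_iff, _root_.or_true])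
      exact ⟨C, h1, h2, h3⟩
  have hcard := F.card
  have hcent : ∀ x : ↥(Cfsg.Lie.twistedG2 K (3 ^ m)), orderOf x = 2 →
      Nat.card (centralizer ({x} : Set ↥(Cfsg.Lie.twistedG2 K (3 ^ m)))) =
        3 ^ (2 * m + 1) * ((3 ^ (2 * m + 1)) ^ 2 - 1) := by
    intro x hx
    obtain ⟨s, hs, ⟨e⟩⟩ := F.cent
    obtain ⟨g, rfl⟩ := isConj_iff.1 (F.conj s x hs hx)
    have h1 : Nat.card (centralizer ({s} : Set ↥(Cfsg.Lie.twistedG2 K (3 ^ m)))) =
        3 ^ (2 * m + 1) * ((3 ^ (2 * m + 1)) ^ 2 - 1) := by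
      rw [Nat.card_congr e.toEquiv, Nat.card_prod, Nat.card_eq_fintype_card (α := Multiplicative (ZMod 2)),
        Fintype.card_multiplicative, ZMod.card]
      have h2 := Cfsg.Agent.ClassicalGeometry.PSL2Basic.card_PSL2_odd (F := K) (by
        rw [hK]
        exact Odd.pow (by decide))
      rw [hK] at h2
      exact h2
    rw [← h1]
    refine Nat.card_congr
      { toFun := fun y => ⟨g⁻¹ * y * g, ?_⟩
        invFun := fun y => ⟨g * y * g⁻¹, ?_⟩
        left_inv := fun y => Subtype.ext (by simp only; group)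
        right_inv := fun y => Subtype.ext (by simp only; group) }
    · have h := mem_centralizer_singleton_iff.1 y.2
      rw [mem_centralizer_singleton_iff]
      have h3 : g⁻¹ * (y : ↥(Cfsg.Lie.twistedG2 K (3 ^ m))) * g * s = g⁻¹ * (y * (g * s * g⁻¹)) * g := by group
      rw [h3, h]
      group
    · have h := mem_centralizer_singleton_iff.1 y.2
      rw [mem_centralizer_singleton_iff]
      have h3 : g * (y : ↥(Cfsg.Lie.twistedG2 K (3 ^ m))) * g⁻¹ * (g * s * g⁻¹) = g * (y * s) * g⁻¹ := by group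
      rw [h3, h]
      group
  have hnorm := F.norm
  have h27 := four_lt hm
  have h8 := mod_eight m
  have hr9 : 9 ≤ 3 ^ (m + 1) := by
    have := Nat.pow_le_pow_right (n := 3) (by norm_num) (show 2 ≤ m + 1 by omega)
    norm_num at this
    exact this
  have hqr : 3 ^ (m + 1) * 3 ^ (m + 1) = 3 * 3 ^ (2 * m + 1) := by
    rw [← pow_add, ← pow_succ']
    congr 1
    ring
  have hq3 : ∀ p : ℕ, p.Prime → p ∣ 3 ^ (2 * m + 1) → p = 3 := fun p hp hpd =>
    (Nat.prime_dvd_prime_iff_eq hp Nat.prime_three).1 (hp.dvd_of_dvd_pow hpd)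
  have hr3 : ∀ p : ℕ, p.Prime → p ∣ 3 ^ (m + 1) → p = 3 := fun p hp hpd =>
    (Nat.prime_dvd_prime_iff_eq hp Nat.prime_three).1 (hp.dvd_of_dvd_pow hpd)
  have h3q : 3 ∣ 3 ^ (2 * m + 1) := dvd_pow_self 3 (by omega)
  have huni : ∀ A : Subgroup ↥(Cfsg.Lie.twistedG2 K (3 ^ m)), IsMulCommutative A → IsPGroup 3 A →
      Nat.card A ≤ (3 ^ (2 * m + 1)) ^ 2 := by
    intro A hA h3
    have : Fact (Nat.Prime 3) := ⟨Nat.prime_three⟩
    obtain ⟨Q, hQ⟩ := h3.exists_le_sylow
    obtain ⟨g, hg⟩ := MulAction.exists_smul_eq ↥(Cfsg.Lie.twistedG2 K (3 ^ m)) Q P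
    have h1 : (P : Subgroup ↥(Cfsg.Lie.twistedG2 K (3 ^ m))) =
        (Q : Subgroup ↥(Cfsg.Lie.twistedG2 K (3 ^ m))).map (MulAut.conj g).toMonoidHom := by
      rw [← hg]
      rfl
    have h2 : A.map (MulAut.conj g).toMonoidHom ≤ uSub D := by
      rw [← hP, h1]
      exact Subgroup.map_mono hQ
    have h3 := card_le_of_le_uSub D (comm_map _ hA) h2
    rw [Subgroup.card_map_of_injective (MulAut.conj g).injective, hK] at h3
    exact h3
  have hdvdpow : ∀ A : Subgroup ↥(Cfsg.Lie.twistedG2 K (3 ^ m)), Nat.card A ∣ (3 ^ (2 * m + 1)) ^ 3 → IsPGroup 3 A := by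
    intro A hA
    rw [← pow_mul] at hA
    have : Fact (Nat.Prime 3) := ⟨Nat.prime_three⟩
    obtain ⟨k, -, hk⟩ := (Nat.dvd_prime_pow Nat.prime_three).1 hA
    exact IsPGroup.of_card hk
  exact ab3_of_facts h27 h8 hr9 hqr hq3 hr3 h3q hcard hcent hnorm hN2 hN3 hN4 huni hdvdpow

theorem ab3_Ree {G : Type*} [Group G] [Finite G] [IsSimpleGroup G] (h : Cfsg.Lie.IsoRee G) : Ab3 G := by
  obtain ⟨K, _, _, m, hm, hK, ⟨e⟩⟩ := h
  exact (ab3_model hm hK).congr e.symm

end Cfsg.Agent.H753.AbRee
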