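import Mathlib
import Cfsg.Agent.H954.OutHeis_m3
import Cfsg.Agent.H70.SzOut
import Cfsg.Agent.H743.MeetTw
import Cfsg.Agent.S2238
import Cfsg.Agent.S0330
import Cfsg.Agent.S2337
import Cfsg.Agent.S2126
import Cfsg.Agent.S1162
import Cfsg.Agent.S1163
import Cfsg.Agent.OddCyclic.ClaimC.SzIso
import Cfsg.Agent.H753.AbRee
import Cfsg.Agent.S2127
import Cfsg.Agent.S2343
import Cfsg.Agent.FastGrp
import Cfsg.Agent.Prune
set_option linter.all false
prune_inst 0x7fffbdfddfb8bfffffff7e7faed9ddfc3bd5dfffbcdff94bffe865ffbfdfa30e09e5f3ad09e058fe0ed6429608a87843fbfffeffea6ffc7ffffdfff45ffbee5ff7ffbd0951df8cb40ffc6ffffbf07f8e7f3fffffffffffffffffffffffffffbeffffffffffff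
open scoped Cfsg.Agent.FastGrp

-- part: H753/CycSzLin
section
/-!
# Matrices of size 4 whose characteristic polynomial has coefficients in the prime field (helper753)

* `orderOf_le` : the order is at most `16`;
* `ne_thirteen` : the order is not `13`.
-/

set_option autoImplicit false

namespace Cfsg.Agent.H753.CycSzLin

open Polynomial Matrix

variable {F : Type*} [Field F]

theorem exists_dvd (h2 : (2 : F) = 0) {p : F[X]} (hp : p.Monic) (hd : p.natDegree = 4)
    (hc : ∀ i, p.coeff i = 0 ∨ p.coeff i = 1) (h0 : p.coeff 0 ≠ 0) :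
    ∃ N, ¬ 13 ∣ N ∧ 0 < N ∧ p ∣ X ^ N - 1 := by
  have hp' := hp.as_sum
  rw [hd] at hp'
  simp only [Finset.sum_range_succ, Finset.sum_range_zero, zero_add, pow_zero, mul_one, pow_one] at hp'
  have e2 : (2 : F[X]) = 0 := by
    have : (2 : F[X]) = C (2 : F) := (map_ofNat C 2).symm
    rw [this, h2, C_0]
  rw [(hc 0).resolve_left h0, C_1] at hp'
  rcases hc 1 with h1 | h1 <;> rcases hc 2 with h2 | h2 <;> rcases hc 3 with h3 | h3 <;>
    rw [h1, h2, h3] at hp' <;> simp only [C_0, C_1, zero_mul, one_mul, add_zero] at hp' <;> rw [hp']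
  · exact ⟨4, by norm_num, by norm_num, 1, by linear_combination (-1) * e2⟩
  · exact ⟨15, by norm_num, by norm_num, 1 + X^3 + X^4 + X^6 + X^8 + X^9 + X^10 + X^11,
      by linear_combination (-1 - X^3 - X^4 - X^6 - X^7 - X^8 - X^9 - X^10 - X^11 - X^12 - X^13 - X^14) * e2⟩
  · exact ⟨6, by norm_num, by norm_num, 1 + X^2, by linear_combination (-1 - X^2 - X^4) * e2⟩
  · exact ⟨7, by norm_num, by norm_num, 1 + X^2 + X^3,
      by linear_combination (-1 - X^2 - X^3 - X^4 - X^5 - X^6) * e2⟩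
  · exact ⟨15, by norm_num, by norm_num, 1 + X + X^2 + X^3 + X^5 + X^7 + X^8 + X^11,
      by linear_combination (-1 - X - X^2 - X^3 - X^4 - X^5 - X^6 - X^7 - X^8 - X^9 - X^11 - X^12) * e2⟩
  · exact ⟨6, by norm_num, by norm_num, 1 + X + X^2,
      by linear_combination (-1 - X - X^2 - X^3 - X^4 - X^5) * e2⟩
  · exact ⟨7, by norm_num, by norm_num, 1 + X + X^3,
      by linear_combination (-1 - X - X^2 - X^3 - X^4 - X^5) * e2⟩
  · exact ⟨5, by norm_num, by norm_num, 1 + X, by linear_combination (-1 - X - X^2 - X^3 - X^4) * e2⟩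

variable (A : Matrix (Fin 4) (Fin 4) F)

theorem coeff_zero_ne (hA : IsUnit A) : A.charpoly.coeff 0 ≠ 0 := by
  intro h
  have h1 := A.det_eq_sign_charpoly_coeff
  rw [h, mul_zero] at h1
  exact ((Matrix.isUnit_iff_isUnit_det A).1 hA).ne_zero h1

theorem ne_thirteen (h2 : (2 : F) = 0) (hA : IsUnit A) (hc : ∀ i, A.charpoly.coeff i = 0 ∨ A.charpoly.coeff i = 1) :
    orderOf A ≠ 13 := by
  intro h13
  obtain ⟨N, hN, -, c, hc'⟩ := exists_dvd h2 A.charpoly_monic (by rw [A.charpoly_natDegree_eq_dim, Fintype.card_fin])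
    hc (coeff_zero_ne A hA)
  have h3 : aeval A (X ^ N - 1 : F[X]) = 0 := by
    rw [hc', map_mul, Matrix.aeval_self_charpoly, zero_mul]
  rw [map_sub, map_pow, aeval_X, map_one, sub_eq_zero] at h3
  exact hN (h13 ▸ orderOf_dvd_of_pow_eq_one h3)

/-- the subset spanned by `1, A, A², A³` over the prime field -/
def span4 : Set (Matrix (Fin 4) (Fin 4) F) :=
  Set.range fun e : Fin 4 → Bool => ∑ i : Fin 4, (if e i then (1 : F) else 0) • A ^ (i : ℕ)

theorem card_span4 : Nat.card (span4 A) ≤ 16 := by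
  have h := Nat.card_le_card_of_surjective (Set.rangeFactorization
    fun e : Fin 4 → Bool => ∑ i : Fin 4, (if e i then (1 : F) else 0) • A ^ (i : ℕ)) Set.rangeFactorization_surjective
  refine h.trans (le_of_eq ?_)
  rw [Nat.card_eq_fintype_card, Fintype.card_fun, Fintype.card_bool, Fintype.card_fin]
  norm_num

theorem bool_of {a : F} (h : a = 0 ∨ a = 1) : ∃ b : Bool, a = if b then 1 else 0 := by
  rcases h with h | h
  · exact ⟨false, by simp [h]⟩
  · exact ⟨true, by simp [h]⟩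

theorem mem_span4_iff {B : Matrix (Fin 4) (Fin 4) F} : B ∈ span4 A ↔
    ∃ a b c d : F, (a = 0 ∨ a = 1) ∧ (b = 0 ∨ b = 1) ∧ (c = 0 ∨ c = 1) ∧ (d = 0 ∨ d = 1) ∧
      B = a • 1 + b • A + c • A ^ 2 + d • A ^ 3 := by
  constructor
  · rintro ⟨e, rfl⟩
    refine ⟨if e 0 then 1 else 0, if e 1 then 1 else 0, if e 2 then 1 else 0, if e 3 then 1 else 0, ?_, ?_, ?_, ?_, ?_⟩
    · by_cases h : e 0 = true <;> simp [h]
    · by_cases h : e 1 = true <;> simp [h]
    · by_cases h : e 2 = true <;> simp [h]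
    · by_cases h : e 3 = true <;> simp [h]
    · simp only [Fin.sum_univ_four, _root_.ite_smul, _root_.one_smul, _root_.zero_smul, _root_.Fin.isValue, _root_.Fin.coe_ofNat_eq_mod, _root_.Nat.zero_mod, _root_.pow_zero, _root_.Nat.one_mod, _root_.pow_one, _root_.Nat.reduceMod, _root_.Nat.mod_succ]
  · rintro ⟨a, b, c, d, ha, hb, hc, hd, rfl⟩
    obtain ⟨a, rfl⟩ := bool_of ha
    obtain ⟨b, rfl⟩ := bool_of hb
    obtain ⟨c, rfl⟩ := bool_of hc
    obtain ⟨d, rfl⟩ := bool_of hd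
    refine ⟨![a, b, c, d], ?_⟩
    clear ha hb hc hd
    cases a <;> cases b <;> cases c <;> cases d <;> simp only [Fin.sum_univ_four, _root_.ite_smul, _root_.one_smul, _root_.zero_smul, _root_.Fin.isValue, _root_.Matrix.cons_val_zero, _root_.Bool.false_eq_true, ↓ _root_.reduceIte, _root_.Matrix.cons_val_one, _root_.add_zero, _root_.Matrix.cons_val, _root_.Fin.coe_ofNat_eq_mod, _root_.Nat.mod_succ, _root_.zero_add, _root_.Nat.reduceMod, _root_.Nat.one_mod, _root_.pow_one, _root_.Nat.zero_mod, _root_.pow_zero]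

theorem add_bool (h2 : (2 : F) = 0) {a b : F} (ha : a = 0 ∨ a = 1) (hb : b = 0 ∨ b = 1) : a + b = 0 ∨ a + b = 1 := by
  rcases ha with rfl | rfl <;> rcases hb with rfl | rfl
  · left; ring
  · right; ring
  · right; ring
  · left
    rw [← h2]
    ring

theorem mul_bool {a b : F} (ha : a = 0 ∨ a = 1) (hb : b = 0 ∨ b = 1) : a * b = 0 ∨ a * b = 1 := by
  rcases ha with rfl | rfl <;> rcases hb with rfl | rfl <;> simp

/-- the order is at most `16` -/
theorem orderOf_le (h2 : (2 : F) = 0) (hc : ∀ i, A.charpoly.coeff i = 0 ∨ A.charpoly.coeff i = 1) :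
    orderOf A ≤ 16 := by
  have h4 : A ^ 4 = A.charpoly.coeff 0 • 1 + A.charpoly.coeff 1 • A + A.charpoly.coeff 2 • A ^ 2 +
      A.charpoly.coeff 3 • A ^ 3 := by
    have h3 := A.aeval_self_charpoly
    have h5 := A.charpoly_monic.as_sum
    rw [A.charpoly_natDegree_eq_dim, Fintype.card_fin] at h5
    simp only [Finset.sum_range_succ, Finset.sum_range_zero, zero_add, pow_zero, mul_one, pow_one] at h5
    rw [h5] at h3
    simp only [map_add, map_mul, map_pow, aeval_X, aeval_C, Algebra.algebraMap_eq_smul_one, smul_mul_assoc,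
      one_mul] at h3
    have hneg : ∀ M : Matrix (Fin 4) (Fin 4) F, -M = M := by
      intro M
      rw [neg_eq_iff_add_eq_zero]
      have : (2 : F) • M = 0 := by rw [h2, zero_smul]
      rwa [two_smul] at this
    rw [add_eq_zero_iff_eq_neg, hneg] at h3
    exact h3
  have hmem : ∀ k : ℕ, A ^ k ∈ span4 A := by
    intro k
    induction k with
    | zero =>
      rw [mem_span4_iff]
      exact ⟨1, 0, 0, 0, Or.inr rfl, Or.inl rfl, Or.inl rfl, Or.inl rfl, by simp⟩
    | succ k ih =>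
      rw [mem_span4_iff] at ih ⊢
      obtain ⟨a, b, c, d, ha, hb, hcc, hd, h⟩ := ih
      refine ⟨d * A.charpoly.coeff 0, a + d * A.charpoly.coeff 1, b + d * A.charpoly.coeff 2,
        c + d * A.charpoly.coeff 3, mul_bool hd (hc 0), add_bool h2 ha (mul_bool hd (hc 1)),
        add_bool h2 hb (mul_bool hd (hc 2)), add_bool h2 hcc (mul_bool hd (hc 3)), ?_⟩
      rw [pow_succ, h]
      have e3 : A ^ 3 * A = A ^ 4 := rfl
      have e2 : A ^ 2 * A = A ^ 3 := rfl
      rw [add_mul, add_mul, add_mul, smul_mul_assoc, smul_mul_assoc, smul_mul_assoc, smul_mul_assoc, e3, e2, h4, one_mul,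
        ← pow_two]
      simp only [smul_add, add_smul, smul_smul]
      abel
  let f : Fin (orderOf A) → span4 A := fun k => ⟨A ^ (k : ℕ), hmem k⟩
  have hf : Function.Injective f := by
    intro i j hij
    have h3 : A ^ (i : ℕ) = A ^ (j : ℕ) := congrArg Subtype.val hij
    exact Fin.ext (pow_injOn_Iio_orderOf i.2 j.2 h3)
  have hfin : Finite (span4 A) := Set.finite_range _
  have h3 := Nat.card_le_card_of_injective f hf
  rw [Nat.card_eq_fintype_card, Fintype.card_fin] at h3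
  exact h3.trans (card_span4 A)

end Cfsg.Agent.H753.CycSzLin
end

-- part: H753/CycSz
section
/-!
# TEAM TWOCYC (S3507): the row `Sz(q)` (helper753)

* `smC_sz` : `SmC` for the Suzuki groups.
-/

set_option autoImplicit false

namespace Cfsg.Agent.H753.CycSz

open Cfsg Cfsg.Agent.H384.Cyc Cfsg.Agent.H753.Cyc
open Cfsg.Agent.LieRecognition.SzMatrix Cfsg.Agent.ThreePrime Cfsg.Agent.ThreePrime.SzRel
open Cfsg.Agent.H70.SzOut

universe u v

variable {F : Type*} [Field F] [Fintype F] {m : ℕ}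

/-- the orders of the elements -/
theorem orders (hm : 1 ≤ m) (hF : Fintype.card F = 2 ^ (2 * m + 1)) (x : ↥(Cfsg.Lie.Sz F (2 ^ (m + 1)))) :
    orderOf x ≤ 4 ∨ orderOf x ∣ 2 ^ (2 * m + 1) - 1 ∨ orderOf x ∣ 2 ^ (2 * m + 1) + 2 ^ (m + 1) + 1 ∨
      orderOf x ∣ 2 ^ (2 * m + 1) - 2 ^ (m + 1) + 1 := by
  obtain ⟨e⟩ := OddCyclic.ClaimC.SzIso.iso hm hF
  rw [← e.symm.orderOf_eq]
  generalize e.symm x = y
  by_cases hy : y = 1
  · left
    rw [hy, orderOf_one]
    norm_num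
  obtain ⟨U, ⟨hU, hyU⟩, -⟩ := Cfsg.Agent.S2238.result hm hF y hy
  rcases hU with ⟨P, rfl⟩ | ⟨-, hN⟩
  · left
    have h1 := (Cfsg.Agent.S0330.result hm hF P).2.1
    have h2 := Monoid.pow_exponent_eq_one (⟨y, hyU⟩ : (P : Subgroup ↥(Cfsg.Sz F m)))
    rw [h1] at h2
    exact orderOf_le_of_pow_eq_one (by norm_num) (congrArg Subtype.val h2)
  · right
    have h5 : orderOf y ∣ Nat.card U := by
      rw [← Subgroup.orderOf_mk y hyU]
      exact orderOf_dvd_natCard _
    rcases hN with hN | hN | hN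
    · exact Or.inl (hN ▸ h5)
    · exact Or.inr (Or.inl (hN ▸ h5))
    · exact Or.inr (Or.inr (hN ▸ h5))

theorem orderOf_le (hm : 1 ≤ m) (hF : Fintype.card F = 2 ^ (2 * m + 1)) (x : ↥(Cfsg.Lie.Sz F (2 ^ (m + 1)))) :
    orderOf x ≤ 2 ^ (2 * m + 1) + 2 ^ (m + 1) + 1 := by
  have h1 : 2 ^ 3 ≤ 2 ^ (2 * m + 1) := Nat.pow_le_pow_right (by norm_num) (by omega)
  have h0 : 0 < 2 ^ (m + 1) := by positivity
  rcases orders hm hF x with h | h | h | h
  · omega
  · exact (Nat.le_of_dvd (by omega) h).trans (by omega)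
  · exact Nat.le_of_dvd (by omega) h
  · exact (Nat.le_of_dvd (by omega) h).trans (by omega)

theorem charpoly_conj {F : Type*} [Field F] {g x y : GL (Fin 4) F} (h : g * y * g⁻¹ = x) :
    (x.1 : Matrix (Fin 4) (Fin 4) F).charpoly = (y.1 : Matrix (Fin 4) (Fin 4) F).charpoly := by
  rw [← h, Units.val_mul, Units.val_mul, Matrix.coe_units_inv]
  exact Matrix.charpoly_units_conj g _

/-- the characteristic polynomial of an element fixed by an outer automorphism -/
theorem coeff_fixed {F : Type*} [Field F] {θ : F →+* F} {e : ℕ} (H : Good F θ e) {g x : ↥(Cfsg.Lie.Sz F e)}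
    {σ : F ≃+* F} (h : (MulAut.conj g * fieldAut H σ) x = x) (i : ℕ) :
    σ ((x.1.1 : Matrix (Fin 4) (Fin 4) F).charpoly.coeff i) = (x.1.1 : Matrix (Fin 4) (Fin 4) F).charpoly.coeff i := by
  have h1 : g * fieldAut H σ x * g⁻¹ = x := h
  have h2 := charpoly_conj (congrArg Subtype.val h1)
  have h3 : ((fieldAut H σ x).1.1 : Matrix (Fin 4) (Fin 4) F) = (x.1.1 : Matrix (Fin 4) (Fin 4) F).map (σ : F →+* F) := by
    ext a b
    exact fieldAut_apply H σ x a b
  rw [h3, Matrix.charpoly_map] at h2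
  have h4 := congrArg (fun p => Polynomial.coeff p i) h2
  simp only [Polynomial.coeff_map] at h4
  exact h4.symm

theorem two_eq_zero (hF : Fintype.card F = 2 ^ (2 * m + 1)) : (2 : F) = 0 := by
  have h1 := Nat.cast_card_eq_zero F
  rw [hF] at h1
  push_cast at h1
  exact pow_eq_zero_iff (by omega) |>.1 h1

/-- the fixed elements of a nontrivial field automorphism, if `2 m + 1` is a prime -/
theorem eq_zero_or_one (hF : Fintype.card F = 2 ^ (2 * m + 1)) (hp : (2 * m + 1).Prime) {σ : F ≃+* F} (hσ : σ ≠ 1)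
    {a : F} (ha : σ a = a) : a = 0 ∨ a = 1 := by
  have : Fact (2 * m + 1).Prime := ⟨hp⟩
  have : Fact (Nat.Prime 2) := ⟨Nat.prime_two⟩
  have h2 : CharP F 2 := by
    have := two_eq_zero hF
    exact CharTwo.of_one_ne_zero_of_two_eq_zero one_ne_zero this
  have hcard : Nat.card (F ≃+* F) = 2 * m + 1 := Cfsg.Agent.Lib.FieldAutCard.card_ringAut (by omega) hF
  let φ : F ≃+* F := frobeniusEquiv F 2
  have h1 : φ ∈ Subgroup.zpowers σ := mem_zpowers_of_prime_card hcard hσ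
  obtain ⟨k, hk⟩ := Subgroup.mem_zpowers_iff.1 h1
  have h3 : ∀ j : ℤ, (σ ^ j) a = a := by
    intro j
    have : σ ∈ MulAction.stabilizer (F ≃+* F) a := ha
    exact Subgroup.zpow_mem _ this j
  have h4 : φ a = a := by rw [← hk]; exact h3 k
  have h5 : a ^ 2 = a := h4
  have h6 : a * (a - 1) = 0 := by linear_combination h5
  rcases mul_eq_zero.1 h6 with h | h
  · exact Or.inl h
  · exact Or.inr (sub_eq_zero.1 h)

theorem orderOf_mat {F : Type*} [Field F] {e : ℕ} (x : ↥(Cfsg.Lie.Sz F e)) : orderOf (x.1.1 : Matrix (Fin 4) (Fin 4) F) = orderOf x := by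
  rw [orderOf_units, Subgroup.orderOf_coe]

theorem center_eq_bot (hm : 1 ≤ m) (hF : Fintype.card F = 2 ^ (2 * m + 1)) :
    Subgroup.center ↥(Cfsg.Lie.Sz F (2 ^ (m + 1))) = ⊥ := by
  have hs : IsSimpleGroup ↥(Cfsg.Lie.Sz F (2 ^ (m + 1))) := Cfsg.Agent.S1162.result hm hF
  rcases hs.eq_bot_or_eq_top_of_normal _ (inferInstance : (Subgroup.center ↥(Cfsg.Lie.Sz F (2 ^ (m + 1)))).Normal) with h | h
  · exact h
  exfalso
  have hcard := (Cfsg.Agent.S1163.result hm hF).1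
  have hna : ¬ IsMulCommutative ↥(Cfsg.Lie.Sz F (2 ^ (m + 1))) := by
    have h3 : 2 ^ 3 ≤ 2 ^ (2 * m + 1) := Nat.pow_le_pow_right (by norm_num) (by omega)
    refine H743.MeetTw.not_comm_of_not_dvd (a := (2 ^ (2 * m + 1)) ^ 2 * (2 ^ (2 * m + 1) - 1))
      (b := (2 ^ (2 * m + 1)) ^ 2 + 1) ?_ ?_ hcard
    · generalize 2 ^ (2 * m + 1) = q at h3
      obtain ⟨k, rfl⟩ := Nat.exists_eq_add_of_le h3
      rw [show 2 ^ 3 + k - 1 = 7 + k by omega]
      nlinarith only []
    · have : 0 < (2 ^ (2 * m + 1)) ^ 2 := by positivity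
      omega
  exact hna (Subgroup.center_eq_top_iff.1 h)

/-- the outer automorphisms, if `2 m + 1` is a prime -/
theorem outer (hm : 1 ≤ m) (hF : Fintype.card F = 2 ^ (2 * m + 1)) (hp : (2 * m + 1).Prime)
    (α : MulAut ↥(Cfsg.Lie.Sz F (2 ^ (m + 1)))) :
    (∃ x, α = MulAut.conj x) ∨ ∃ x, α ^ (2 * m + 1) = MulAut.conj x ∧ orderOf x ≤ 16 ∧ orderOf x ≠ 13 := by
  obtain ⟨g, σ, hσ⟩ := H743.MeetTw.sz_aut hm hF α
  by_cases h1 : σ = 1
  · left
    refine ⟨g, ?_⟩
    rw [hσ, h1, map_one, mul_one]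
  right
  have hfin : Finite ↥(Cfsg.Lie.Sz F (2 ^ (m + 1))) := inferInstance
  have h2 : ((QuotientGroup.mk α : Cfsg.Out ↥(Cfsg.Lie.Sz F (2 ^ (m + 1))))) ^ (2 * m + 1) = 1 := by
    rw [← S2126.result hm hF]
    exact pow_card_eq_one'
  have h3 : ((QuotientGroup.mk (α ^ (2 * m + 1)) : Cfsg.Out ↥(Cfsg.Lie.Sz F (2 ^ (m + 1))))) = 1 := h2
  rw [QuotientGroup.eq_one_iff] at h3
  obtain ⟨x, hx⟩ := h3
  refine ⟨x, hx.symm, ?_⟩
  have h4 : α x = x := by
    have h5 : MulAut.conj (α x) = MulAut.conj x := by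
      have h6 : α * MulAut.conj x * α⁻¹ = MulAut.conj x := by
        rw [show (MulAut.conj x : MulAut ↥(Cfsg.Lie.Sz F (2 ^ (m + 1)))) = α ^ (2 * m + 1) from hx]
        group
      rw [← h6]
      ext1 y
      simp only [MulAut.conj_apply, MulAut.mul_apply, _root_.MulAut.inv_apply, _root_.map_mul, _root_.MulEquiv.apply_symm_apply, _root_.map_inv]
    have h7 : (α x) * x⁻¹ ∈ Subgroup.center ↥(Cfsg.Lie.Sz F (2 ^ (m + 1))) := by
      rw [Subgroup.mem_center_iff]
      intro y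
      have h8 := DFunLike.congr_fun h5 (x⁻¹ * y * x)
      simp only [MulAut.conj_apply] at h8
      calc y * ((α x) * x⁻¹) = x * (x⁻¹ * y * x) * x⁻¹ * (α x * x⁻¹) := by group
        _ = α x * (x⁻¹ * y * x) * (α x)⁻¹ * (α x * x⁻¹) := by rw [h8]
        _ = α x * x⁻¹ * y := by group
    rw [center_eq_bot hm hF, Subgroup.mem_bot, mul_inv_eq_one] at h7
    exact h7
  have h5 := fun i => eq_zero_or_one hF hp h1 (coeff_fixed (good hF) (by rw [← hσ]; exact h4) i)
  rw [← orderOf_mat]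
  exact ⟨CycSzLin.orderOf_le _ (two_eq_zero hF) h5, CycSzLin.ne_thirteen _ (two_eq_zero hF) x.1.isUnit h5⟩

theorem num_aux (t k : ℕ) (h1 : k + 1 ≤ t) (h8 : 8 ≤ t) :
    2 * (k * (2 * (t * t) + 2 * t + 1)) ≤ 3 * (t * (2 * (t * t) - 1)) := by
  obtain ⟨s, rfl⟩ := Nat.exists_eq_add_of_le h8
  have h2 : k ≤ 7 + s := by omega
  have h3 : 2 * ((8 + s) * (8 + s)) - 1 = 2 * (s * s) + 32 * s + 127 := by
    have : 2 * ((8 + s) * (8 + s)) = 2 * (s * s) + 32 * s + 128 := by ring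
    omega
  rw [h3]
  have h4 : k * (2 * ((8 + s) * (8 + s)) + 2 * (8 + s) + 1) ≤ (7 + s) * (2 * ((8 + s) * (8 + s)) + 2 * (8 + s) + 1) :=
    Nat.mul_le_mul_right _ h2
  refine (Nat.mul_le_mul_left 2 h4).trans ?_
  linarith only [Nat.zero_le (s * s * s), _root_.mul_self_nonneg (↑s : ℤ), _root_.Nat.cast_nonneg (α := ℤ) (s)]

theorem two_mul_add_le {m : ℕ} (hm : 3 ≤ m) : 2 * m + 1 + 1 ≤ 2 ^ m := by
  induction m, hm using Nat.le_induction with
  | base => norm_num
  | succ n hn ih =>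
    rw [pow_succ]
    omega

/-- the orders of the automorphisms -/
theorem exists_mo (hm : 1 ≤ m) (hF : Fintype.card F = 2 ^ (2 * m + 1)) :
    ∃ M, Mo ↥(Cfsg.Lie.Sz F (2 ^ (m + 1))) M ∧ 2 * M ≤ 3 * (2 ^ m * (2 ^ (2 * m + 1) - 1)) := by
  rcases Nat.lt_or_ge m 3 with h3 | h3
  · interval_cases m
    · refine ⟨21, ?_, by norm_num⟩
      intro α
      rcases outer hm hF (by norm_num) α with ⟨x, rfl⟩ | ⟨x, hx, -, h13⟩
      · have h1 := (orderOf_conj_le x).trans (orderOf_le hm hF x)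
        norm_num at h1
        omega
      · have h1 : orderOf x ≤ 7 := by
          rcases orders hm hF x with h | h | h | h
          · omega
          · exact Nat.le_of_dvd (by norm_num) h
          · norm_num at h h13
            rcases (Nat.dvd_prime (by norm_num)).1 h with h | h
            · omega
            · exact absurd h h13
          · exact (Nat.le_of_dvd (by norm_num) h).trans (by norm_num)
        refine orderOf_le_of_pow (n := 3) (k := 7) (by norm_num) (orderOf_pos _) ?_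
        have hx' : α ^ 3 = MulAut.conj x := hx
        rw [hx']
        exact (orderOf_conj_le x).trans h1
    · refine ⟨186, ?_, by norm_num⟩
      intro α
      rcases outer hm hF (by norm_num) α with ⟨x, rfl⟩ | ⟨x, hx, h1, -⟩
      · have h1 := (orderOf_conj_le x).trans (orderOf_le hm hF x)
        norm_num at h1
        omega
      · have h2 := orderOf_le_of_pow (a := α) (n := 5) (k := 16) (by norm_num) (orderOf_pos _) (by
          have hx' : α ^ 5 = MulAut.conj x := hx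
          rw [hx']
          exact (orderOf_conj_le x).trans h1)
        omega
  · refine ⟨_, mo_of_out (S2126.result hm hF) (by omega) (orderOf_le hm hF), ?_⟩
    have e1 : 2 ^ (2 * m + 1) = 2 * (2 ^ m * 2 ^ m) := by ring
    have e2 : 2 ^ (m + 1) = 2 * 2 ^ m := by ring
    rw [e1, e2]
    exact num_aux _ _ (two_mul_add_le h3) (by
      calc 8 = 2 ^ 3 := rfl
        _ ≤ 2 ^ m := Nat.pow_le_pow_right (by norm_num) h3)

/-- **Suzuki groups** -/
theorem smC_sz {T : Type u} [Group T] (h : Lie.IsoSuzuki T) : SmC T := by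
  obtain ⟨F, _, _, m, hm, hF, ⟨e⟩⟩ := h
  refine SmC.congr (T := ↥(Cfsg.Lie.Sz F (2 ^ (m + 1)))) ?_ e.symm
  obtain ⟨M, h1, h2⟩ := exists_mo hm hF
  exact ⟨M, _, h1, md_of_rep (S2337.result m hm hF), h2⟩

theorem ord_sz {T : Type u} [Group T] (h : Lie.IsoSuzuki T) : H384.Cyc.Ord T := by
  obtain ⟨F, _, _, m, hm, hF, ⟨e⟩⟩ := h
  refine H384.Cyc.Ord.congr (T := ↥(Cfsg.Lie.Sz F (2 ^ (m + 1)))) ?_ e.symm
  obtain ⟨M, h1, h2⟩ := exists_mo hm hF
  refine ⟨M, h1, ?_⟩
  rw [(Cfsg.Agent.S1163.result hm hF).1]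
  have h3 : 2 ^ 3 ≤ 2 ^ (2 * m + 1) := Nat.pow_le_pow_right (by norm_num) (by omega)
  have e1 : 2 ^ (2 * m + 1) = 2 * (2 ^ m * 2 ^ m) := by ring
  obtain ⟨t, ht⟩ : ∃ t, t = 2 ^ m := ⟨_, rfl⟩
  rw [← ht] at e1 h2
  generalize 2 ^ (2 * m + 1) = q at e1 h2 h3 ⊢
  obtain ⟨k, rfl⟩ := Nat.exists_eq_add_of_le h3
  rw [show 2 ^ 3 + k - 1 = 7 + k by (clear * - e1; omega)] at h2 ⊢
  have h4 : (2 * M) * (2 * M) ≤ (3 * (t * (7 + k))) * (3 * (t * (7 + k))) := Nat.mul_le_mul h2 h2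
  have h5 : 2 * ((2 * M) * (2 * M)) ≤ 9 * ((2 ^ 3 + k) * ((7 + k) * (7 + k))) := by
    calc 2 * ((2 * M) * (2 * M)) ≤ 2 * ((3 * (t * (7 + k))) * (3 * (t * (7 + k)))) := Nat.mul_le_mul_left _ h4
      _ = 9 * ((2 * (t * t)) * ((7 + k) * (7 + k))) := by ring
      _ = _ := by rw [← e1]
  have h6 : 9 * ((2 ^ 3 + k) * ((7 + k) * (7 + k))) < 4 * ((2 ^ 3 + k) ^ 2 * (7 + k) * ((2 ^ 3 + k) ^ 2 + 1)) := by
    have h7 : 9 * ((7 + k)) < 4 * ((2 ^ 3 + k) * ((2 ^ 3 + k) ^ 2 + 1)) := by linarith only [h5, _root_.mul_self_nonneg (↑k : ℤ), _root_.mul_self_nonneg (2 * ↑M : ℤ), _root_.Nat.cast_nonneg (α := ℤ) (k)]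
    calc 9 * ((2 ^ 3 + k) * ((7 + k) * (7 + k))) = (9 * (7 + k)) * ((2 ^ 3 + k) * (7 + k)) := by ring
      _ < (4 * ((2 ^ 3 + k) * ((2 ^ 3 + k) ^ 2 + 1))) * ((2 ^ 3 + k) * (7 + k)) :=
        Nat.mul_lt_mul_of_pos_right h7 (by positivity)
      _ = _ := by ring
  linarith only [h5, h6]

end Cfsg.Agent.H753.CycSz
end

-- part: H753/CycRee
section
/-!
# TEAM TWOCYC (S3507): the row `²G₂(q)` (helper753)

* `orderOf_le` : the elements of `²G₂(q)` have order at most `12 q`;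
* `smC_ree` : `SmC` for the Ree groups.
-/

set_option autoImplicit false

namespace Cfsg.Agent.H753.CycRee

open Subgroup Cfsg.Agent.H968.TwoRee Cfsg.Agent.H753.AbRee Cfsg.Agent.H384.Cyc Cfsg.Agent.H753.Cyc
open Cfsg.Agent.H498.Ab (comm_iff)
open Cfsg.Agent.LieRecognition.ReeAbs Cfsg.Agent.LieRecognition.ReeSylowThree Cfsg.Agent.LieRecognition.ReeSplit
open Cfsg.Agent.FixBN.RankOneRee

universe u v

section unip

variable {K : Type*} [Field K] {G : Type*} [Group G] {m : ℕ} {U : K → K → K → G} {h : Kˣ → G} {n : G}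

theorem pow_nine (h3 : (3 : K) = 0) (D : Data m U h n) {x : G} (hx : x ∈ uSub D) : x ^ 9 = 1 := by
  obtain ⟨t, u, v, rfl⟩ := hx
  have h1 : ∀ w : K, U 0 0 w ^ 3 = 1 := by
    intro w
    rw [pow_succ, pow_two, D.U_mul, D.U_mul, ← D.U_zero]
    congr 1
    · ring
    · rw [zero_pow (by positivity)]
      ring
    · rw [zero_pow (by positivity)]
      linear_combination w * h3
  have h2 : U t u v ^ 3 = U 0 0 (-(t ^ 2 * t ^ 3 ^ (m + 1))) := by
    rw [pow_succ, pow_two, D.U_mul, D.U_mul]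
    congr 1
    · linear_combination t * h3
    · linear_combination (u - t * t ^ 3 ^ (m + 1)) * h3
    · linear_combination (v - u * t) * h3
  rw [show 9 = 3 * 3 from rfl, pow_mul, h2, h1]

end unip

theorem dich_of_facts {G : Type*} [Group G] [Finite G] {q r : ℕ} (h27 : 27 ≤ q) (h8 : q % 8 = 3) (hr9 : 9 ≤ r)
    (hqr : r * r = 3 * q) (hq3 : ∀ p : ℕ, p.Prime → p ∣ q → p = 3) (hr3 : ∀ p : ℕ, p.Prime → p ∣ r → p = 3)
    (h3q : 3 ∣ q) (hcard : Nat.card G = q ^ 3 * (q - 1) * (q ^ 3 + 1))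
    (hcent : ∀ x : G, orderOf x = 2 → Nat.card (centralizer ({x} : Set G)) = q * (q ^ 2 - 1))
    (hnorm : ∀ p : ℕ, p.Prime → p ≠ 2 → p ∣ q - 1 → ∀ X : Subgroup G, Nat.card X = p →
      Nat.card (normalizer (X : Set G)) = 2 * (q - 1))
    (hN2 : ∃ C : Subgroup G, Nat.card C = (q + 1) / 4 ∧ Nat.card (normalizer (C : Set G)) = 6 * (q + 1) ∧
      ∀ A₀ : Subgroup G, A₀ ≤ C → A₀ ≠ ⊥ → normalizer (A₀ : Set G) = normalizer (C : Set G))
    (hN3 : ∃ C : Subgroup G, Nat.card C = q - r + 1 ∧ Nat.card (normalizer (C : Set G)) = 6 * (q - r + 1) ∧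
      ∀ A₀ : Subgroup G, A₀ ≤ C → A₀ ≠ ⊥ → normalizer (A₀ : Set G) = normalizer (C : Set G))
    (hN4 : ∃ C : Subgroup G, Nat.card C = q + r + 1 ∧ Nat.card (normalizer (C : Set G)) = 6 * (q + r + 1) ∧
      ∀ A₀ : Subgroup G, A₀ ≤ C → A₀ ≠ ⊥ → normalizer (A₀ : Set G) = normalizer (C : Set G))
    (A : Subgroup G) (hA : IsMulCommutative A) : Nat.card A ≤ 12 * q ∨ Nat.card A ∣ q ^ 3 := by
  obtain ⟨q', rfl⟩ : ∃ q', q = q' + 1 := ⟨q - 1, by (clear * - h8; omega)⟩
  set q := q' + 1 with hq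
  have h3r : 3 * r ≤ q := by nlinarith only [hr9, hqr]
  have hrq : r ≤ q := by (clear * - h3r; omega)
  have hq'0 : 0 < q' := by (clear * - h8; omega)
  obtain ⟨a, ha⟩ : ∃ a, q - r + 1 = a := ⟨_, rfl⟩
  have ha' : a + r = q + 1 := by (clear * - hrq ha; omega)
  set b := q + r + 1 with hb
  have hab : a * b + q = q ^ 2 + 1 := by
    have h1 : a * b + r * b = (q + 1) * b := by rw [← add_mul, ha']
    have h2 : r * b = r * q + 3 * q + r := by rw [hb]; ring_nf; rw [sq, hqr]; ring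
    have h3 : (q + 1) * b = q ^ 2 + 2 * q + 1 + r * q + r := by rw [hb]; ring
    (clear * - h1 h2 h3; omega)
  have hcube : q ^ 3 + 1 = (q + 1) * (a * b) := by
    have h1 : (q + 1) * (a * b) + (q + 1) * q = (q + 1) * (q ^ 2 + 1) := by rw [← mul_add, hab]
    have h2 : (q + 1) * q = q ^ 2 + q := by ring
    have h3 : (q + 1) * (q ^ 2 + 1) = q ^ 3 + q ^ 2 + q + 1 := by ring
    (clear * - h1 h2 h3; omega)
  have hG : Nat.card G = q ^ 3 * q' * ((q + 1) * (a * b)) := by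
    rw [hcard, hcube]
    rfl
  have hq4 : q + 1 = 4 * ((q + 1) / 4) := by (clear * - h8; omega)
  have hq2 : q' = 2 * (q' / 2) := by (clear * - h8; omega)
  have ha0' : 0 < a := by (clear * - ha; omega)
  have hb0' : 0 < b := by (clear * -; omega)
  have ha0 : a ≠ 0 := by (clear * - ha; omega)
  have hb0 : b ≠ 0 := by (clear * -; omega)
  have h5 : ∀ p : ℕ, p.Prime → p ≠ 2 → p ≠ 3 → ∀ A : Subgroup G, IsMulCommutative A → p ∣ Nat.card A →
      Nat.card A ≤ 12 * q := by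
    intro p hp hp2 hp3 A hA hpA
    have hpq : ¬ p ∣ q := fun h => hp3 (hq3 p hp h)
    have hpr : ¬ p ∣ r := fun h => hp3 (hr3 p hp h)
    have hpG : p ∣ q ^ 3 * q' * ((q + 1) * (a * b)) := hG ▸ hpA.trans (Subgroup.card_subgroup_dvd_card A)
    have hp4 : ¬ p ∣ 2 := fun h => hp2 ((Nat.prime_dvd_prime_iff_eq hp Nat.prime_two).1 h)
    have hp5 : ¬ p ∣ 3 := fun h => hp3 ((Nat.prime_dvd_prime_iff_eq hp Nat.prime_three).1 h)
    have hp6 : ¬ p ∣ 4 := fun h => hp4 (by
      have : p ∣ 2 ^ 2 := h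
      exact hp.dvd_of_dvd_pow this)
    -- pairwise coprimality
    have c1 : p ∣ q' → ¬ p ∣ q + 1 := by
      intro h1 h2
      apply hp4
      have : q + 1 = q' + 2 := by omega
      rw [this] at h2
      exact (Nat.dvd_add_right h1).1 h2
    have c2 : p ∣ q' → ¬ p ∣ a * b := by
      intro h1 h2
      have h3 : a * b = q' * q + 1 := by
        have : q ^ 2 + 1 = q' * q + q + 1 := by rw [hq]; ring
        (clear * - hab this; omega)
      rw [h3] at h2
      exact hp.one_lt.ne' (Nat.dvd_one.1 ((Nat.dvd_add_right (h1.mul_right q)).1 h2))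
    have c3 : p ∣ q + 1 → ¬ p ∣ a * b := by
      intro h1 h2
      apply hp5
      have h3 : a * b + 3 * q = (q + 1) ^ 2 := by
        have : (q + 1) ^ 2 = q ^ 2 + 2 * q + 1 := by ring
        (clear * - hab this; omega)
      have h4 : p ∣ a * b + 3 * q := by rw [h3]; exact h1.trans (dvd_pow_self _ (by norm_num))
      have h5 := (Nat.dvd_add_right h2).1 h4
      exact (hp.dvd_mul.1 h5).resolve_right hpq
    have c4 : p ∣ a → ¬ p ∣ b := by
      intro h1 h2
      have h3 : b = a + 2 * r := by (clear * - ha'; omega)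
      rw [h3] at h2
      have h4 := (Nat.dvd_add_right h1).1 h2
      rcases hp.dvd_mul.1 h4 with h | h
      · exact hp4 h
      · exact hpr h
    by_cases d1 : p ∣ q'
    · -- `q - 1`
      have : Fact p.Prime := ⟨hp⟩
      obtain ⟨x, hx⟩ := exists_prime_orderOf_dvd_card' p hpA
      have hX : Nat.card (zpowers (x : G)) = p := by
        rw [Nat.card_zpowers, Subgroup.orderOf_coe, hx]
      have h1 : A ≤ normalizer ((zpowers (x : G) : Subgroup G) : Set G) := by
        intro a ha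
        refine Subgroup.centralizer_le_normalizer _ ?_
        rw [Subgroup.mem_centralizer_iff]
        intro y hy
        obtain ⟨k, rfl⟩ := Subgroup.mem_zpowers_iff.1 hy
        have h2 : Commute ((x : G)) a := comm_iff.1 hA _ x.2 _ ha
        exact (h2.zpow_left k).eq
      have h2 := hnorm p hp hp2 d1 _ hX
      have h3 := Subgroup.card_le_of_le h1
      rw [h2] at h3
      (clear * - h3; omega)
    by_cases d2 : p ∣ q + 1
    · obtain ⟨C, hC1, hC2, hC3⟩ := hN2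
      have h1 := card_le_of_prime hp C ?_ hC3 hA hpA
      · rw [hC2] at h1
        (clear * - h1; omega)
      · rw [hC1, hG]
        have e : q ^ 3 * q' * ((q + 1) * (a * b)) = ((q + 1) / 4) * (4 * (q ^ 3 * q' * (a * b))) := by
          conv_lhs => rw [hq4]
          ring
        rw [e]
        refine factorization_eq (by (clear * - hq4; omega)) (by (clear * - hq'0 ha0'; positivity)) ?_
        intro h
        rcases hp.dvd_mul.1 h with h | h
        · exact hp6 h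
        · rcases hp.dvd_mul.1 h with h | h
          · rcases hp.dvd_mul.1 h with h | h
            · exact hpq (hp.dvd_of_dvd_pow h)
            · exact d1 h
          · exact c3 d2 h
    by_cases d3 : p ∣ a
    · obtain ⟨C, hC1, hC2, hC3⟩ := hN3
      have h1 := card_le_of_prime hp C ?_ hC3 hA hpA
      · rw [hC2] at h1
        (clear * - h1; omega)
      · rw [hC1, hG, ha]
        have e : q ^ 3 * q' * ((q + 1) * (a * b)) = a * (q ^ 3 * q' * ((q + 1) * b)) := by ring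
        rw [e]
        refine factorization_eq ha0 (by (clear * - hq'0; positivity)) ?_
        intro h
        rcases hp.dvd_mul.1 h with h | h
        · rcases hp.dvd_mul.1 h with h | h
          · exact hpq (hp.dvd_of_dvd_pow h)
          · exact d1 h
        · rcases hp.dvd_mul.1 h with h | h
          · exact d2 h
          · exact c4 d3 h
    have d4 : p ∣ b := by
      rcases hp.dvd_mul.1 hpG with h | h
      · rcases hp.dvd_mul.1 h with h | h
        · exact absurd (hp.dvd_of_dvd_pow h) hpq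
        · exact absurd h d1
      · rcases hp.dvd_mul.1 h with h | h
        · exact absurd h d2
        · exact (hp.dvd_mul.1 h).resolve_left d3
    obtain ⟨C, hC1, hC2, hC3⟩ := hN4
    have h1 := card_le_of_prime hp C ?_ hC3 hA hpA
    · rw [hC2] at h1
      (clear * - h3r h1; omega)
    · rw [hC1, hG]
      have e : q ^ 3 * q' * ((q + 1) * (a * b)) = b * (q ^ 3 * q' * ((q + 1) * a)) := by ring
      rw [e]
      refine factorization_eq hb0 (by (clear * - hq'0 ha0'; positivity)) ?_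
      intro h
      rcases hp.dvd_mul.1 h with h | h
      · rcases hp.dvd_mul.1 h with h | h
        · exact hpq (hp.dvd_of_dvd_pow h)
        · exact d1 h
      · rcases hp.dvd_mul.1 h with h | h
        · exact d2 h
        · exact d3 h
  by_cases hex : ∃ p : ℕ, p.Prime ∧ p ≠ 2 ∧ p ≠ 3 ∧ p ∣ Nat.card A
  · obtain ⟨p, hp, hp2, hp3, hpA⟩ := hex
    exact Or.inl (h5 p hp hp2 hp3 A hA hpA)
  push Not at hex
  by_cases h2A : 2 ∣ Nat.card A
  · have : Fact (Nat.Prime 2) := ⟨Nat.prime_two⟩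
    obtain ⟨x, hx⟩ := exists_prime_orderOf_dvd_card' 2 h2A
    have h1 : A ≤ centralizer ({(x : G)} : Set G) := by
      intro a ha
      rw [mem_centralizer_singleton_iff]
      exact comm_iff.1 hA _ ha _ x.2
    have h2 := Subgroup.card_dvd_of_le h1
    rw [hcent _ (by rw [Subgroup.orderOf_coe]; exact hx)] at h2
    have h3 : q * (q ^ 2 - 1) = 8 * q * (((q + 1) / 4) * (q' / 2)) := by
      have e1 : q ^ 2 - 1 = (q + 1) * q' := by
        have : q ^ 2 = (q + 1) * q' + 1 := by rw [hq]; ring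
        omega
      rw [e1]
      conv_lhs => rw [hq4, hq2]
      ring
    rw [h3] at h2
    have h4 : Nat.Coprime (Nat.card A) (((q + 1) / 4) * (q' / 2)) := by
      rw [Nat.Coprime, Nat.eq_one_iff_not_exists_prime_dvd]
      intro p hp hpd
      have hpA := hpd.trans (Nat.gcd_dvd_left _ _)
      have hpd := hpd.trans (Nat.gcd_dvd_right _ _)
      by_cases hp2 : p = 2
      · subst hp2
        rcases hp.dvd_mul.1 hpd with h | h <;> (clear * - h8 h; omega)
      by_cases hp3 : p = 3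
      · subst hp3
        rcases hp.dvd_mul.1 hpd with h | h <;> (clear * - h8 h3q h; omega)
      exact hex p hp hp2 hp3 hpA
    have h5 := Nat.le_of_dvd (by positivity) (h4.dvd_of_dvd_mul_right h2)
    exact Or.inl (by (clear * - h5; omega))
  · have h1 : Nat.card A ∣ q ^ 3 * (q' * ((q + 1) * (a * b))) := by
      rw [← mul_assoc, ← hG]
      exact Subgroup.card_subgroup_dvd_card A
    have h4 : Nat.Coprime (Nat.card A) (q' * ((q + 1) * (a * b))) := by
      rw [Nat.Coprime, Nat.eq_one_iff_not_exists_prime_dvd]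
      intro p hp hpd
      have hpA := hpd.trans (Nat.gcd_dvd_left _ _)
      have hpd := hpd.trans (Nat.gcd_dvd_right _ _)
      by_cases hp2 : p = 2
      · subst hp2
        exact h2A hpA
      by_cases hp3 : p = 3
      · subst hp3
        rw [← hcube] at hpd
        rcases hp.dvd_mul.1 hpd with h | h
        · (clear * - h3q h; omega)
        · have h6 : 3 ∣ q ^ 3 := h3q.trans (dvd_pow_self _ (by norm_num))
          have := (Nat.dvd_add_right h6).1 h
          (clear * - h h6; omega)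
      exact hex p hp hp2 hp3 hpA
    exact Or.inr (h4.dvd_of_dvd_mul_right h1)

theorem orderOf_le {K : Type*} [Field K] [Fintype K] {m : ℕ} (hm : 1 ≤ m)
    (hK : Fintype.card K = 3 ^ (2 * m + 1)) (x : ↥(Cfsg.Lie.twistedG2 K (3 ^ m))) :
    orderOf x ≤ 12 * 3 ^ (2 * m + 1) := by
  obtain ⟨U, h, n, D⟩ := Cfsg.Agent.ChevalleyStructure.Ree.Data.exists_data hK
  have hfin : Finite ↥(Cfsg.Lie.twistedG2 K (3 ^ m)) := finite D
  obtain ⟨P, hP⟩ := (Cfsg.Agent.H71.RoRee.ro hm hK D).syl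
  have F := facts hm hK
  obtain ⟨_, _, hN2, hN3, hN4⟩ : ∃ _ : True, ∃ _ : True,
      (∃ C : Subgroup ↥(Cfsg.Lie.twistedG2 K (3 ^ m)), Nat.card C = (3 ^ (2 * m + 1) + 1) / 4 ∧
        Nat.card (normalizer (C : Set ↥(Cfsg.Lie.twistedG2 K (3 ^ m)))) = 6 * (3 ^ (2 * m + 1) + 1) ∧
        ∀ A₀ : Subgroup ↥(Cfsg.Lie.twistedG2 K (3 ^ m)), A₀ ≤ C → A₀ ≠ ⊥ →
          normalizer (A₀ : Set ↥(Cfsg.Lie.twistedG2 K (3 ^ m))) =
            normalizer (C : Set ↥(Cfsg.Lie.twistedG2 K (3 ^ m)))) ∧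
      (∃ C : Subgroup ↥(Cfsg.Lie.twistedG2 K (3 ^ m)), Nat.card C = 3 ^ (2 * m + 1) - 3 ^ (m + 1) + 1 ∧
        Nat.card (normalizer (C : Set ↥(Cfsg.Lie.twistedG2 K (3 ^ m)))) =
          6 * (3 ^ (2 * m + 1) - 3 ^ (m + 1) + 1) ∧
        ∀ A₀ : Subgroup ↥(Cfsg.Lie.twistedG2 K (3 ^ m)), A₀ ≤ C → A₀ ≠ ⊥ →
          normalizer (A₀ : Set ↥(Cfsg.Lie.twistedG2 K (3 ^ m))) =
            normalizer (C : Set ↥(Cfsg.Lie.twistedG2 K (3 ^ m)))) ∧
      (∃ C : Subgroup ↥(Cfsg.Lie.twistedG2 K (3 ^ m)), Nat.card C = 3 ^ (2 * m + 1) + 3 ^ (m + 1) + 1 ∧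
        Nat.card (normalizer (C : Set ↥(Cfsg.Lie.twistedG2 K (3 ^ m)))) =
          6 * (3 ^ (2 * m + 1) + 3 ^ (m + 1) + 1) ∧
        ∀ A₀ : Subgroup ↥(Cfsg.Lie.twistedG2 K (3 ^ m)), A₀ ≤ C → A₀ ≠ ⊥ →
          normalizer (A₀ : Set ↥(Cfsg.Lie.twistedG2 K (3 ^ m))) =
            normalizer (C : Set ↥(Cfsg.Lie.twistedG2 K (3 ^ m)))) := by
    refine ⟨trivial, trivial, ?_, ?_, ?_⟩
    · obtain ⟨C, -, h1, h2, h3⟩ := Cfsg.Agent.S1158.result hm hK
        ((3 ^ (2 * m + 1) + 1) / 4, 6 * (3 ^ (2 * m + 1) + 1)) (by simp only [_root_.Set.mem_insert_iff, _root_.Prod.mk.injEq, _root_.mul_eq_mul_left_iff, _root_.Nat.add_right_cancel_iff, _root_.OfNat.ofNat_ne_zero, _root_.or_false, _root_.Set.mem_singleton_iff, _root_.Nat.left_eq_add, _root_.Nat.pow_eq_zero, _root_.ne_eq, _root_.Nat.add_eq_zero_iff, _root_.one_ne_zero, _root_.and_false, _root_.not_false_eq_true, _root_.and_true, _root_.or_self, _root_.true_or, _root_.or_true])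
      exact ⟨C, h1, h2, h3⟩
    · obtain ⟨C, -, h1, h2, h3⟩ := Cfsg.Agent.S1158.result hm hK
        (3 ^ (2 * m + 1) - 3 ^ (m + 1) + 1, 6 * (3 ^ (2 * m + 1) - 3 ^ (m + 1) + 1)) (by simp only [_root_.Set.mem_insert_iff, _root_.Prod.mk.injEq, _root_.mul_eq_mul_left_iff, _root_.Nat.add_right_cancel_iff, _root_.OfNat.ofNat_ne_zero, _root_.or_false, _root_.Set.mem_singleton_iff, _root_.and_self, _root_.true_or, _root_.or_true])
      exact ⟨C, h1, h2, h3⟩
    · obtain ⟨C, -, h1, h2, h3⟩ := Cfsg.Agent.S1158.result hm hK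
        (3 ^ (2 * m + 1) + 3 ^ (m + 1) + 1, 6 * (3 ^ (2 * m + 1) + 3 ^ (m + 1) + 1)) (by simp only [_root_.Set.mem_insert_iff, _root_.Prod.mk.injEq, _root_.mul_eq_mul_left_iff, _root_.Nat.add_right_cancel_iff, _root_.Nat.add_eq_left, _root_.Nat.pow_eq_zero, _root_.OfNat.ofNat_ne_zero, _root_.ne_eq, _root_.Nat.add_eq_zero_iff, _root_.one_ne_zero, _root_.and_false, _root_.not_false_eq_true, _root_.and_true, _root_.or_self, _root_.or_false, _root_.and_self, _root_.Set.mem_singleton_iff, _root_.or_true])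
      exact ⟨C, h1, h2, h3⟩
  have hcard := F.card
  have hcent : ∀ x : ↥(Cfsg.Lie.twistedG2 K (3 ^ m)), orderOf x = 2 →
      Nat.card (centralizer ({x} : Set ↥(Cfsg.Lie.twistedG2 K (3 ^ m)))) =
        3 ^ (2 * m + 1) * ((3 ^ (2 * m + 1)) ^ 2 - 1) := by
    intro x hx
    obtain ⟨s, hs, ⟨e⟩⟩ := F.cent
    obtain ⟨g, rfl⟩ := isConj_iff.1 (F.conj s x hs hx)
    have h1 : Nat.card (centralizer ({s} : Set ↥(Cfsg.Lie.twistedG2 K (3 ^ m)))) =
        3 ^ (2 * m + 1) * ((3 ^ (2 * m + 1)) ^ 2 - 1) := by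
      rw [Nat.card_congr e.toEquiv, Nat.card_prod, Nat.card_eq_fintype_card (α := Multiplicative (ZMod 2)),
        Fintype.card_multiplicative, ZMod.card]
      have h2 := Cfsg.Agent.ClassicalGeometry.PSL2Basic.card_PSL2_odd (F := K) (by
        rw [hK]
        exact Odd.pow (by decide))
      rw [hK] at h2
      exact h2
    rw [← h1]
    refine Nat.card_congr
      { toFun := fun y => ⟨g⁻¹ * y * g, ?_⟩
        invFun := fun y => ⟨g * y * g⁻¹, ?_⟩
        left_inv := fun y => Subtype.ext (by simp only; group)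
        right_inv := fun y => Subtype.ext (by simp only; group) }
    · have h := mem_centralizer_singleton_iff.1 y.2
      rw [mem_centralizer_singleton_iff]
      have h3 : g⁻¹ * (y : ↥(Cfsg.Lie.twistedG2 K (3 ^ m))) * g * s = g⁻¹ * (y * (g * s * g⁻¹)) * g := by group
      rw [h3, h]
      group
    · have h := mem_centralizer_singleton_iff.1 y.2
      rw [mem_centralizer_singleton_iff]
      have h3 : g * (y : ↥(Cfsg.Lie.twistedG2 K (3 ^ m))) * g⁻¹ * (g * s * g⁻¹) = g * (y * s) * g⁻¹ := by group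
      rw [h3, h]
      group
  have hnorm := F.norm
  have h27 := four_lt hm
  have h8 := mod_eight m
  have hr9 : 9 ≤ 3 ^ (m + 1) := by
    have := Nat.pow_le_pow_right (n := 3) (by norm_num) (show 2 ≤ m + 1 by omega)
    norm_num at this
    exact this
  have hqr : 3 ^ (m + 1) * 3 ^ (m + 1) = 3 * 3 ^ (2 * m + 1) := by
    rw [← pow_add, ← pow_succ']
    congr 1
    ring
  have hq3 : ∀ p : ℕ, p.Prime → p ∣ 3 ^ (2 * m + 1) → p = 3 := fun p hp hpd =>
    (Nat.prime_dvd_prime_iff_eq hp Nat.prime_three).1 (hp.dvd_of_dvd_pow hpd)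
  have hr3 : ∀ p : ℕ, p.Prime → p ∣ 3 ^ (m + 1) → p = 3 := fun p hp hpd =>
    (Nat.prime_dvd_prime_iff_eq hp Nat.prime_three).1 (hp.dvd_of_dvd_pow hpd)
  have h3q : 3 ∣ 3 ^ (2 * m + 1) := dvd_pow_self 3 (by omega)
  have h1 := dich_of_facts h27 h8 hr9 hqr hq3 hr3 h3q hcard hcent hnorm hN2 hN3 hN4 (zpowers x) inferInstance
  rw [Nat.card_zpowers] at h1
  rcases h1 with h1 | h1
  · exact h1
  -- a `3`-element
  have h2 : IsPGroup 3 (zpowers x) := by
    rw [← pow_mul] at h1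
    have : Fact (Nat.Prime 3) := ⟨Nat.prime_three⟩
    obtain ⟨k, -, hk⟩ := (Nat.dvd_prime_pow Nat.prime_three).1 h1
    exact IsPGroup.of_card (n := k) (by rw [Nat.card_zpowers, hk])
  have : Fact (Nat.Prime 3) := ⟨Nat.prime_three⟩
  obtain ⟨Q, hQ⟩ := h2.exists_le_sylow
  obtain ⟨g, hg⟩ := MulAction.exists_smul_eq ↥(Cfsg.Lie.twistedG2 K (3 ^ m)) Q P
  have h3 : (P : Subgroup ↥(Cfsg.Lie.twistedG2 K (3 ^ m))) =
      (Q : Subgroup ↥(Cfsg.Lie.twistedG2 K (3 ^ m))).map (MulAut.conj g).toMonoidHom := by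
    rw [← hg]
    rfl
  have h4 : MulAut.conj g x ∈ uSub D := by
    rw [← hP, h3]
    exact ⟨x, hQ (mem_zpowers x), rfl⟩
  have hch : CharP K 3 := LieRecognition.ReeAbs.charP_three hK
  have h5 := pow_nine (by exact_mod_cast CharP.cast_eq_zero K 3) D h4
  have h6 : orderOf x ≤ 9 := by
    refine orderOf_le_of_pow_eq_one (by norm_num) ?_
    rw [← map_pow] at h5
    exact (MulAut.conj g).injective (h5.trans (map_one _).symm)
  (clear * - h8 h6; omega)


theorem le_three_pow {k : ℕ} (hk : 3 ≤ k) : 8 * k + 1 ≤ 3 ^ k := by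
  induction k, hk using Nat.le_induction with
  | base => norm_num
  | succ n hn ih =>
    rw [pow_succ]
    omega

/-- the orders of the automorphisms -/
theorem exists_mo {K : Type*} [Field K] [Fintype K] {m : ℕ} (hm : 1 ≤ m)
    (hK : Fintype.card K = 3 ^ (2 * m + 1)) :
    ∃ M, Mo ↥(Cfsg.Lie.twistedG2 K (3 ^ m)) M ∧ 2 * M ≤ 3 * ((3 ^ (2 * m + 1)) ^ 2 - 3 ^ (2 * m + 1) + 1) := by
  obtain ⟨U, h, n, D⟩ := Cfsg.Agent.ChevalleyStructure.Ree.Data.exists_data hK
  have hfin : Finite ↥(Cfsg.Lie.twistedG2 K (3 ^ m)) := finite D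
  refine ⟨_, mo_of_out (S2127.result hm hK) (by omega) (orderOf_le hm hK), ?_⟩
  have h1 := le_three_pow (k := 2 * m + 1) (by omega)
  generalize 3 ^ (2 * m + 1) = q at h1 ⊢
  generalize 2 * m + 1 = f at h1 ⊢
  obtain ⟨d, rfl⟩ := Nat.exists_eq_add_of_le h1
  have h2 : (8 * f + 1 + d) ^ 2 - (8 * f + 1 + d) = (8 * f + 1 + d) * (8 * f + d) := by
    rw [show (8 * f + 1 + d) ^ 2 = (8 * f + 1 + d) * (8 * f + d) + (8 * f + 1 + d) by ring, Nat.add_sub_cancel]
  rw [h2]
  linarith only [Nat.zero_le (d * f), _root_.mul_self_nonneg (↑d : ℤ), _root_.Nat.cast_nonneg (α := ℤ) (d)]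

/-- **Small Ree groups** -/
theorem smC_ree {T : Type u} [Group T] (h : Lie.IsoRee T) : SmC T := by
  obtain ⟨K, _, _, m, hm, hK, ⟨e⟩⟩ := h
  refine SmC.congr (T := ↥(Cfsg.Lie.twistedG2 K (3 ^ m))) ?_ e.symm
  obtain ⟨M, h1, h2⟩ := exists_mo hm hK
  exact ⟨M, _, h1, md_of_rep (S2343.result m hm hK), h2⟩

theorem ord_ree {T : Type u} [Group T] (h : Lie.IsoRee T) : H384.Cyc.Ord T := by
  obtain ⟨K, _, _, m, hm, hK, ⟨e⟩⟩ := h
  refine H384.Cyc.Ord.congr (T := ↥(Cfsg.Lie.twistedG2 K (3 ^ m))) ?_ e.symm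
  obtain ⟨M, h1, h2⟩ := exists_mo hm hK
  refine ⟨M, h1, ?_⟩
  have hcard := (facts hm hK).card
  rw [hcard]
  have h27 := four_lt hm
  generalize 3 ^ (2 * m + 1) = q at h27 h2 ⊢
  obtain ⟨k, rfl⟩ := Nat.exists_eq_add_of_le h27
  have h3 : 3 * ((27 + k) ^ 2 - (27 + k) + 1) ≤ 3 * (27 + k) ^ 2 := by
    have h5 : 1 ≤ 27 + k := by omega
    have h4 : 27 + k ≤ (27 + k) ^ 2 := by nlinarith only []
    omega
  have h4 : (2 * M) * (2 * M) ≤ (3 * (27 + k) ^ 2) * (3 * (27 + k) ^ 2) := Nat.mul_le_mul (h2.trans h3) (h2.trans h3)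
  have h5 : (3 * (27 + k) ^ 2) * (3 * (27 + k) ^ 2) < 2 * ((27 + k) ^ 3 * (27 + k - 1) * ((27 + k) ^ 3 + 1)) := by
    rw [show 27 + k - 1 = 26 + k by omega]
    have h6 : 9 * (27 + k) < 2 * ((26 + k) * ((27 + k) ^ 3 + 1)) := by nlinarith only [Nat.zero_le (k * k * k)]
    calc (3 * (27 + k) ^ 2) * (3 * (27 + k) ^ 2) = (9 * (27 + k)) * (27 + k) ^ 3 := by ring
      _ < (2 * ((26 + k) * ((27 + k) ^ 3 + 1))) * (27 + k) ^ 3 := Nat.mul_lt_mul_of_pos_right h6 (by positivity)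
      _ = _ := by ring
  linarith only [h4, h5]

end Cfsg.Agent.H753.CycRee
end
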