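import Cfsg.Agent.H498.Ab.RowU
import Cfsg.Agent.LieExceptional.SuzukiHyp
import Cfsg.Agent.LieExceptional.SuzukiSylow
import Cfsg.Agent.LieExceptional.SuzukiTwoPoint
import Cfsg.Agent.OddCyclic.ClaimC.SzIso
import Cfsg.Agent.SignalizersComponents.BalEndSz
import Cfsg.Agent.FastGrp
import Cfsg.Agent.Prune
set_option linter.all false
prune_inst 0x7f00000000000000000000000000000000000000000000000000000000000000000000000000000000000000000000000000000000000000000000000000000000000000000000000000000000000000003fffffffffffffffffffffffffffbeffbdffffffff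
open scoped Cfsg.Agent.FastGrp

/-!
# Abelian subgroups of the Suzuki groups (helper753, for S2501)
-/

set_option autoImplicit false

namespace Cfsg.Agent.H753.AbSz

open Subgroup MulAction Cfsg.Agent.H498.Ab
open Cfsg.Agent.LieExceptional Cfsg.Agent.LieExceptional.SuzukiBasic
open Cfsg.Agent.LieExceptional.SuzukiSylow

theorem card_centralizer_conj {G : Type*} [Group G] (g y : G) :
    Nat.card (centralizer ({y⁻¹ * g * y} : Set G)) = Nat.card (centralizer ({g} : Set G)) := by
  refine Nat.card_congr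
    { toFun := fun x => ⟨y * x * y⁻¹, ?_⟩
      invFun := fun x => ⟨y⁻¹ * x * y, ?_⟩
      left_inv := fun x => Subtype.ext (by simp only; group)
      right_inv := fun x => Subtype.ext (by simp only; group) }
  · have h := mem_centralizer_singleton_iff.1 x.2
    rw [mem_centralizer_singleton_iff]
    have h1 : y * (x * (y⁻¹ * g * y)) * y⁻¹ = y * ((y⁻¹ * g * y) * x) * y⁻¹ := by rw [h]
    have h2 : y * (x : G) * y⁻¹ * g = y * (x * (y⁻¹ * g * y)) * y⁻¹ := by group
    rw [h2, h1]
    group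
  · have h := mem_centralizer_singleton_iff.1 x.2
    rw [mem_centralizer_singleton_iff]
    have h1 : y⁻¹ * (x * g) * y = y⁻¹ * (g * x) * y := by rw [h]
    have h2 : y⁻¹ * (x : G) * y * (y⁻¹ * g * y) = y⁻¹ * (x * g) * y := by group
    rw [h2, h1]
    group

/-- the centralizers of the fixed point free elements -/
theorem card_free_le {G Ω : Type*} [Group G] [Finite G] [MulAction G Ω] [Finite Ω] {m : ℕ}
    (H : SuzukiTori.Hyp G Ω (2 ^ (2 * m + 1))) {g : G} (hg : g ∈ SuzukiTori.Hyp.free G Ω) :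
    Nat.card (centralizer ({g} : Set G)) ≤ 2 ^ (2 * m + 1) + 2 ^ (m + 1) + 1 := by
  obtain ⟨g₁, hg₁, h1, -⟩ := H.exists_tori rfl _ (Set.mem_insert _ _)
  obtain ⟨g₂, hg₂, h2, -⟩ := H.exists_tori rfl _ (Set.mem_insert_of_mem _ rfl)
  obtain ⟨p, k, hp, hpq, hk⟩ := H.exists_prime_pow hg
  have hd : p ∣ Nat.card (centralizer ({g} : Set G)) := by
    rw [← hk]
    have h3 : g ^ k ∈ centralizer ({g} : Set G) := by
      rw [mem_centralizer_singleton_iff, ← pow_succ, ← pow_succ']
    exact Subgroup.orderOf_dvd_natCard _ h3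
  have key : ∀ g' ∈ SuzukiTori.Hyp.free G Ω, p ∣ Nat.card (centralizer ({g'} : Set G)) →
      Nat.card (centralizer ({g} : Set G)) = Nat.card (centralizer ({g'} : Set G)) := by
    intro g' hg' hd'
    obtain ⟨hg1, y, hy⟩ := H.mem_tset_of_dvd hg' hg hp hd' hd
    have h3 := H.centralizer_eq hg' hy (by
      intro h
      apply hg1
      have h4 : g = y * (y⁻¹ * g * y) * y⁻¹ := by group
      rw [h4, h]
      group)
    rw [← h3, card_centralizer_conj]
  have hle : 2 ^ (m + 1) ≤ 2 ^ (2 * m + 1) := Nat.pow_le_pow_right two_pos (by omega)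
  have hmul : (2 ^ (2 * m + 1) + 2 ^ (m + 1) + 1) * (2 ^ (2 * m + 1) - 2 ^ (m + 1) + 1) =
      (2 ^ (2 * m + 1)) ^ 2 + 1 := by
    obtain ⟨d, hd⟩ := Nat.exists_eq_add_of_le hle
    have h3 : 2 ^ (m + 1) * 2 ^ (m + 1) = 2 * 2 ^ (2 * m + 1) := by
      rw [← pow_add, ← pow_succ']
      congr 1
      omega
    rw [hd, Nat.add_sub_cancel_left]
    rw [hd] at h3
    nlinarith
  rw [← hmul] at hpq
  rcases (Nat.Prime.dvd_mul hp).1 hpq with h | h
  · rw [key g₁ hg₁ (h1 ▸ h), h1]
  · rw [key g₂ hg₂ (h2 ▸ h), h2]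
    have h3 := Nat.sub_le (2 ^ (2 * m + 1)) (2 ^ (m + 1))
    have h4 : 0 ≤ 2 ^ (m + 1) := Nat.zero_le _
    generalize 2 ^ (2 * m + 1) - 2 ^ (m + 1) = x at *
    generalize 2 ^ (2 * m + 1) = y at *
    generalize 2 ^ (m + 1) = z at *
    omega

variable {F : Type*} [Field F] [Fintype F] {m : ℕ}

/-- abelian subgroups of the Sylow 2-subgroup -/
theorem card_le_of_le_Q (hm : 1 ≤ m) (hF : Fintype.card F = 2 ^ (2 * m + 1)) {A : Subgroup (Cfsg.Sz F m)}
    (hA : ∀ x ∈ A, ∀ y ∈ A, x * y = y * x) (hAQ : A ≤ Q hF) : Nat.card A ≤ 2 * 2 ^ (2 * m + 1) := by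
  classical
  have hcF : Nat.card F = 2 ^ (2 * m + 1) := by rw [Nat.card_eq_fintype_card, hF]
  choose α β hαβ using fun x : A => (mem_Q_iff hF (x : Cfsg.Sz F m)).1 (hAQ x.2)
  obtain ⟨a, ha⟩ : ∃ a : F, ∀ x : A, α x = 0 ∨ α x = a := by
    by_cases h : ∃ x : A, α x ≠ 0
    · obtain ⟨x, hx⟩ := h
      refine ⟨α x, fun y => ?_⟩
      have h1 := hA x x.2 y y.2
      rw [hαβ x, hαβ y, u_mul, u_mul, u_eq_iff] at h1
      have h2 : α x ^ 2 ^ (m + 1) * α y = α y ^ 2 ^ (m + 1) * α x := by
        have h3 := h1.2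
        linear_combination h3
      set t := α y / α x with ht
      have hy : α y = t * α x := by rw [ht, div_mul_cancel₀ _ hx]
      rw [hy, mul_pow] at h2
      have h3 : t ^ 2 ^ (m + 1) = t := by
        have h4 : α x ^ 2 ^ (m + 1) * α x ≠ 0 := mul_ne_zero (pow_ne_zero _ hx) hx
        apply mul_left_cancel₀ h4
        linear_combination -h2
      have h4 : t ^ 2 = t := by
        rw [← Cfsg.Agent.LieExceptional.SuzukiTwoPoint.pow_sigma_sigma hF t, pow_mul, h3, h3]
      have h5 : t * (t - 1) = 0 := by linear_combination h4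
      rcases mul_eq_zero.1 h5 with h6 | h6
      · left
        rw [hy, h6, zero_mul]
      · right
        rw [hy, sub_eq_zero.1 h6, one_mul]
    · push Not at h
      exact ⟨0, fun x => Or.inl (h x)⟩
  let f : A → Bool × F := fun x => (decide (α x = 0), β x)
  have hf : Function.Injective f := by
    intro x y hxy
    have h1 : (α x = 0 ↔ α y = 0) := by simpa [f] using congrArg Prod.fst hxy
    have h2 : β x = β y := congrArg Prod.snd hxy
    apply Subtype.ext
    rw [hαβ x, hαβ y, u_eq_iff]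
    refine ⟨?_, h2⟩
    rcases ha x with h3 | h3
    · rw [h3, h1.1 h3]
    · rcases ha y with h4 | h4
      · rw [h4, h1.2 h4]
      · rw [h3, h4]
  have h1 := Nat.card_le_card_of_injective f hf
  rw [Nat.card_prod, hcF, Nat.card_eq_fintype_card (α := Bool), Fintype.card_bool] at h1
  exact h1

/-- an abelian subgroup of odd order without fixed point free elements -/
theorem card_le_of_fixed {G Ω : Type*} [Group G] [Finite G] [MulAction G Ω] [Finite Ω] {q : ℕ}
    (H : SuzukiTori.Hyp G Ω q) {A : Subgroup G} (hA : ∀ x ∈ A, ∀ y ∈ A, x * y = y * x) (ho : Odd (Nat.card A))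
    (hne : A ≠ ⊥) (hfix : ∀ a ∈ A, a ∉ SuzukiTori.Hyp.free G Ω) : Nat.card A ≤ q - 1 := by
  have h8 := H.eight_le
  obtain ⟨⟨a, ha⟩, ha1⟩ := (Subgroup.ne_bot_iff_exists_ne_one).1 hne
  have ha1' : a ≠ 1 := fun h => ha1 (Subtype.ext h)
  obtain ⟨ω, hω⟩ : ∃ ω : Ω, a • ω = ω := by
    have h1 := hfix a ha
    rw [SuzukiTori.Hyp.mem_free_iff] at h1
    push Not at h1
    exact h1
  have hle : A ≤ stabilizer G ω := by
    intro b hb
    rw [mem_stabilizer_iff]
    by_contra hbω
    have hmem : ∀ ω' : Ω, a • ω' = ω' → a • (b • ω') = b • ω' := by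
      intro ω' h
      rw [← mul_smul, hA a ha b hb, mul_smul, h]
    have h2 : b • (b • ω) = ω := by
      by_contra h3
      have h4 : b • (b • ω) ≠ b • ω := fun h => hbω (smul_left_cancel b h)
      let g : Fin 3 → fixedBy Ω a := ![⟨ω, hω⟩, ⟨b • ω, hmem _ hω⟩, ⟨b • (b • ω), hmem _ (hmem _ hω)⟩]
      have hg : Function.Injective g := by
        intro i j hij
        have h5 := congrArg Subtype.val hij
        fin_cases i <;> fin_cases j <;> simp only [g, Fin.zero_eta, Fin.mk_one, Fin.reduceFinMk, Matrix.cons_val_zero,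
          Matrix.cons_val_one, Matrix.cons_val] at h5 ⊢ <;> first
          | exact absurd h5 hbω
          | exact absurd h5.symm hbω
          | exact absurd h5 h3
          | exact absurd h5.symm h3
          | exact absurd h5 h4
          | exact absurd h5.symm h4
      have h5 := Nat.card_le_card_of_injective g hg
      rw [Nat.card_fin] at h5
      have h6 := H.three a ha1'
      omega
    have h3 : b ^ 2 ∈ stabilizer G ω := by
      rw [mem_stabilizer_iff, pow_two, mul_smul]
      exact h2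
    apply hbω
    have h4 : Odd (orderOf b) := ho.of_dvd_nat (Subgroup.orderOf_dvd_natCard A hb)
    obtain ⟨k, hk⟩ := h4
    have h5 : b = (b ^ 2) ^ (k + 1) := by
      rw [← pow_mul, show 2 * (k + 1) = orderOf b + 1 by omega, pow_succ, pow_orderOf_eq_one, one_mul]
    have h6 : b ∈ stabilizer G ω := by
      rw [h5]
      exact Subgroup.pow_mem _ h3 _
    exact h6
  have hst : Nat.card (stabilizer G ω) = q ^ 2 * (q - 1) := by
    have htr : IsPretransitive G Ω := by
      have := H.two
      exact MulAction.isPretransitive_of_is_two_pretransitive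
    have h1 := index_stabilizer_of_transitive G ω
    have h2 := (stabilizer G ω).card_mul_index
    rw [h1, H.card_set, H.card_group] at h2
    exact Nat.eq_of_mul_eq_mul_right (by positivity) h2
  have hd : Nat.card A ∣ q ^ 2 * (q - 1) := hst ▸ Subgroup.card_dvd_of_le hle
  have hcop : (Nat.card A).Coprime (q ^ 2) := by
    obtain ⟨n, -, hn⟩ := H.q_eq
    rw [hn, ← pow_mul]
    exact Nat.Coprime.pow_right _ (Nat.coprime_two_right.2 ho)
  exact Nat.le_of_dvd (by omega) (hcop.dvd_of_dvd_mul_left hd)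

theorem ab3_Sz_aux {F : Type} [Field F] [Fintype F] {m : ℕ} (hm : 1 ≤ m) (hF : Fintype.card F = 2 ^ (2 * m + 1)) : Ab3 (Cfsg.Sz F m) := by
  intro A hA
  rw [comm_iff] at hA
  have H := SuzukiHyp.hyp hm hF
  have h8 := H.eight_le
  have hcard := H.card_group
  have hb : Nat.card A ≤ 2 * 2 ^ (2 * m + 1) := by
    have h2f : Fact (Nat.Prime 2) := ⟨Nat.prime_two⟩
    rcases Nat.even_or_odd (Nat.card A) with hev | hodd
    · obtain ⟨x, hx⟩ := exists_prime_orderOf_dvd_card' (G := A) 2 hev.two_dvd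
      have hC := SignalizersComponents.BalEndSz.isPGroup_centralizer_suzuki
        (L := Cfsg.Sz F m) ⟨F, inferInstance, inferInstance, m, hm, hF, OddCyclic.ClaimC.SzIso.iso hm hF⟩
        (x := (x : Cfsg.Sz F m)) (by rw [Subgroup.orderOf_coe, hx])
      have hAC : A ≤ centralizer ({(x : Cfsg.Sz F m)} : Set (Cfsg.Sz F m)) := by
        intro a ha
        rw [mem_centralizer_singleton_iff]
        exact hA a ha x x.2
      obtain ⟨P, hP⟩ := (hC.to_le hAC).exists_le_sylow
      obtain ⟨g, hg⟩ := MulAction.exists_smul_eq (Cfsg.Sz F m) P (sylowQ hm hF)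
      have h1 := card_le_of_le_Q hm hF (A := A.map (MulAut.conj g).toMonoidHom) (by
        rintro _ ⟨a, ha, rfl⟩ _ ⟨b, hb, rfl⟩
        rw [← map_mul, ← map_mul, hA a ha b hb]) (by
        rw [← coe_sylowQ hm hF, ← hg]
        exact Subgroup.map_mono hP)
      rwa [Subgroup.card_map_of_injective (MulAut.conj g).injective] at h1
    · have hfin : Finite (Cfsg.suzukiOvoid F m) :=
        Nat.finite_of_card_ne_zero (by rw [H.card_set]; omega)
      by_cases hfree : ∃ a ∈ A, a ∈ SuzukiTori.Hyp.free (Cfsg.Sz F m) (Cfsg.suzukiOvoid F m)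
      · obtain ⟨a, ha, haf⟩ := hfree
        have hAC : A ≤ centralizer ({a} : Set (Cfsg.Sz F m)) := by
          intro b hb
          rw [mem_centralizer_singleton_iff]
          exact hA b hb a ha
        have h1 := (Subgroup.card_le_of_le hAC).trans (card_free_le H haf)
        have h2 : 2 * 2 ^ (m + 1) ≤ 2 ^ (2 * m + 1) := by
          rw [← pow_succ']
          exact Nat.pow_le_pow_right two_pos (by omega)
        have h3 : 0 < 2 ^ (m + 1) := by positivity
        omega
      · push Not at hfree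
        by_cases hA1 : A = ⊥
        · rw [hA1, Subgroup.card_bot]
          omega
        · have h1 := card_le_of_fixed H hA hodd hA1 hfree
          omega
  rw [hcard]
  generalize 2 ^ (2 * m + 1) = q at *
  calc Nat.card A ^ 3 ≤ (2 * q) ^ 3 := Nat.pow_le_pow_left hb 3
    _ < q ^ 2 * (q - 1) * (q ^ 2 + 1) := by
      obtain ⟨k, rfl⟩ := Nat.exists_eq_add_of_le h8
      rw [show 8 + k - 1 = 7 + k by omega]
      nlinarith [Nat.zero_le (k ^ 2), Nat.zero_le (k ^ 3), Nat.zero_le (k ^ 4), Nat.zero_le (k ^ 5)]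

/-- **Suzuki groups.** -/
theorem ab3_Sz {G : Type*} [Group G] [Finite G] [IsSimpleGroup G] (h : Cfsg.Lie.IsoSuzuki G) : Ab3 G := by
  obtain ⟨F, _, _, m, hm, hF, ⟨e⟩⟩ := h
  obtain ⟨f⟩ := OddCyclic.ClaimC.SzIso.iso hm hF
  exact (ab3_Sz_aux hm hF).congr (f.trans e.symm)

end Cfsg.Agent.H753.AbSz
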